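import Cfsg.Agent.DG.Defs
import Mathlib.LinearAlgebra.Matrix.CharP

/-! Project DG, job CORE: the semilinear action on a line. -/

namespace CL.DG

open Matrix

universe u

variable {p : ℕ} [hp : Fact p.Prime]

namespace Core

theorem sum_pow_eq_zero {R ι : Type*} [Ring R] [CharP R p] (s : Finset ι) (f : ι → R)
    (hc : ∀ i j, Commute (f i) (f j)) (h : ∀ i, f i ^ p = 0) : (∑ i ∈ s, f i) ^ p = 0 := by
  classical
  induction s using Finset.induction_on with
  | empty => simp [hp.out.ne_zero]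
  | insert a s ha ih =>
    rw [Finset.sum_insert ha, add_pow_char_of_commute _ (Commute.sum_right _ _ _ fun j _ => hc a j), h, ih,
      add_zero]

section line

variable {K : Type*} [Field K] {n : Type} [Fintype n] [DecidableEq n] {X A : Matrix n n K} {v w : n → K}

/-- the image of `X ^ (p - 1)` -/
abbrev II (p : ℕ) (X : Matrix n n K) : Submodule K (n → K) := LinearMap.range (X ^ (p - 1)).mulVecLin

omit hp in
theorem inI_iff : InI p X v ↔ v ∈ II p X := ⟨fun ⟨w, h⟩ => ⟨w, h.symm⟩, fun ⟨w, h⟩ => ⟨w, h.symm⟩⟩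

omit hp in
theorem mulVec_mem (h : Commute A X) (hv : v ∈ II p X) : A *ᵥ v ∈ II p X := by
  obtain ⟨w, rfl⟩ := hv
  exact ⟨A *ᵥ w, by simp only [mulVecLin_apply, mulVec_mulVec, (h.pow_right _).eq]⟩

omit [DecidableEq n] in
theorem ker_mulVec (h : A * X = X * A) (hv : X *ᵥ v = 0) : X *ᵥ A *ᵥ v = 0 := by
  rw [mulVec_mulVec, ← h, ← mulVec_mulVec, hv, mulVec_zero]

omit hp in
theorem uniq {l : n → K} (hl : l ∉ II p X) {c d : K} (h1 : w - c • l ∈ II p X) (h2 : w - d • l ∈ II p X) :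
    c = d := by
  by_contra e
  have := sub_mem h2 h1
  rw [sub_sub_sub_cancel_left, ← sub_smul] at this
  exact hl ((Submodule.smul_mem_iff _ (sub_ne_zero.2 e)).1 this)

end line

variable {k : Type} [Field k] {Q : Type u} [CommGroup Q] {n : Type} [Fintype n] [DecidableEq n]

/-- renaming the variables -/
noncomputable def ren (k : Type) [Field k] (Q : Type u) [CommGroup Q] : MulAut Q →* (RR k Q ≃+* RR k Q) where
  toFun e := (MvPolynomial.renameEquiv k e.toEquiv).toRingEquiv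
  map_one' := RingEquiv.ext fun r => by simp
  map_mul' e f := RingEquiv.ext fun r => by simp [MvPolynomial.rename_rename]

/-- renaming the variables in rational functions -/
noncomputable def kap (k : Type) [Field k] (Q : Type u) [CommGroup Q] : MulAut Q →* RingAut (KK k Q) :=
  (IsFractionRing.ringEquivOfRingEquivHom (RR k Q) (KK k Q)).comp (ren k Q)

theorem kap_R (e : MulAut Q) (r : RR k Q) :
    kap k Q e (algebraMap (RR k Q) (KK k Q) r) = algebraMap (RR k Q) (KK k Q) (MvPolynomial.rename e r) :=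
  IsFractionRing.ringEquivOfRingEquiv_algebraMap (ren k Q e) r

theorem kap_k (e : MulAut Q) (c : k) : kap k Q e (algebraMap k (KK k Q) c) = algebraMap k (KK k Q) c := by
  rw [IsScalarTower.algebraMap_apply k (RR k Q) (KK k Q), kap_R, AlgHom.commutes]

omit [DecidableEq n] in
theorem kap_mulVec (e : MulAut Q) (A : Matrix n n (KK k Q)) (v : n → KK k Q) :
    kap k Q e ∘ (A *ᵥ v) = A.map (kap k Q e) *ᵥ (kap k Q e ∘ v) :=
  funext fun i => RingHom.map_mulVec (kap k Q e : KK k Q →+* KK k Q) A v i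

theorem kap_mK (e : MulAut Q) (A : Matrix n n k) : (mK Q A).map (kap k Q e) = mK Q A := by
  ext i j; simp [kap_k]

omit [CommGroup Q] in
theorem mK_smul (c : k) (A : Matrix n n k) : mK Q (c • A) = algebraMap k (KK k Q) c • mK Q A := by
  ext i j; simp

variable [Fintype Q] {u : Q →* Matrix n n k}

theorem comm_nu (c : Q → KK k Q) {A : Matrix n n (KK k Q)} (h : ∀ q, Commute A (mK Q (u q))) :
    Commute A (∑ q, c q • (mK Q (u q) - 1)) :=
  Commute.sum_right _ _ _ fun q _ => ((h q).sub_right (Commute.one_right A)).smul_right _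

theorem comm_mK (c : Q → KK k Q) {A : Matrix n n k} (h : ∀ q, A * u q = u q * A) :
    Commute (mK Q A) (∑ q, c q • (mK Q (u q) - 1)) :=
  comm_nu c fun q => Commute.map (h q) (mK Q)

theorem comm_X {A : Matrix n n k} (h : ∀ q, A * u q = u q * A) : Commute (mK Q A) (genX u) := comm_mK _ h

omit [Fintype Q] in
theorem comm_u (q q' : Q) : u q * u q' = u q' * u q := by rw [← map_mul, mul_comm, map_mul]

theorem nu_pow [CharP k p] [Nonempty n] (h : ∀ q : Q, q ^ p = 1) (c : Q → KK k Q) :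
    (∑ q, c q • (mK Q (u q) - 1)) ^ p = 0 := by
  have : CharP (KK k Q) p := charP_of_injective_algebraMap (algebraMap k (KK k Q)).injective p
  refine sum_pow_eq_zero _ _ (fun q q' => ?_) fun q => ?_
  · have := Commute.map (comm_u (u := u) q q') (mK Q)
    exact (((this.sub_right (Commute.one_right _)).sub_left (Commute.one_left _)).smul_left _).smul_right _
  · rw [_root_.smul_pow, sub_pow_char_of_commute _ (Commute.one_right _), ← map_pow, ← map_pow, h, map_one, map_one,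
      one_pow, sub_self, smul_zero]

theorem kap_X (e : MulAut Q) {T : Matrix n n k} (h : ∀ q, T * u q = u (e q) * T) :
    mK Q T * (genX u).map (kap k Q e) = genX u * mK Q T := by
  have : (genX u).map (kap k Q e) =
      ∑ q, algebraMap (RR k Q) (KK k Q) (MvPolynomial.X (e q)) • (mK Q (u q) - 1) := by
    ext i j
    simp [genX, Matrix.sum_apply, kap_R, kap_k, one_apply, apply_ite (kap k Q e), -algebraMap_smul]
  rw [this, genX, Finset.mul_sum, Finset.sum_mul]
  conv_rhs => rw [← Equiv.sum_comp e.toEquiv]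
  refine Finset.sum_congr rfl fun q _ => ?_
  rw [mul_smul_comm, smul_mul_assoc, mul_sub, sub_mul, ← map_mul, h, map_mul, mul_one, one_mul]
  rfl

variable {Ω Γ : Type u} [Fintype Ω] [MulAction Q Ω] [Group Γ] {φ : Ω → Matrix n n k}
  {ψ : Matrix n n k →ₗ[k] (Ω → k)} {a : Γ →* MulAut Q} {T : Γ →* Matrix n n k} {s : Γ → Matrix n n k}
  {i : Matrix n n k}

/-- the semilinear action -/
noncomputable def DD (a : Γ →* MulAut Q) (T : Γ →* Matrix n n k) (s : Γ → Matrix n n k) (x : Γ)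
    (v : n → KK k Q) : n → KK k Q := mK Q (s x⁻¹ * T x) *ᵥ (kap k Q (a x) ∘ v)

omit [Fintype Q] in
theorem DD_sub (x : Γ) (v w : n → KK k Q) (c : KK k Q) :
    DD a T s x (v - c • w) = DD a T s x v - kap k Q (a x) c • DD a T s x w := by
  rw [DD, DD, DD, ← mulVec_smul, ← mulVec_sub]
  congr 1
  ext j; simp

omit [Fintype Q] in
theorem DD_mK (x : Γ) (A : Matrix n n k) (v : n → KK k Q) :
    DD a T s x (mK Q A *ᵥ v) = mK Q (s x⁻¹ * T x * A) *ᵥ (kap k Q (a x) ∘ v) := by
  rw [DD, kap_mulVec, kap_mK, mulVec_mulVec, ← map_mul]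

omit hp in
theorem DD_X (h : CD p u φ ψ a T s i) (x : Γ) (v : n → KK k Q) :
    DD a T s x (genX u *ᵥ v) = genX u *ᵥ DD a T s x v := by
  rw [DD, DD, kap_mulVec, mulVec_mulVec, mulVec_mulVec, map_mul, mul_assoc, kap_X _ (h.Tu x), ← mul_assoc,
    (comm_X (h.su _)).eq, mul_assoc]

omit hp in
theorem DD_mem (h : CD p u φ ψ a T s i) (x : Γ) {v : n → KK k Q} (hv : v ∈ II p (genX u)) :
    DD a T s x v ∈ II p (genX u) := by
  obtain ⟨w, rfl⟩ := hv
  refine ⟨DD a T s x w, ?_⟩
  simp only [mulVecLin_apply]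
  induction p - 1 with
  | zero => simp
  | succ j ih => rw [pow_succ', ← mulVec_mulVec, ← mulVec_mulVec, DD_X h, ih]

omit hp [Fintype Q] in
theorem DD_DD (h : CD p u φ ψ a T s i) (x y : Γ) (v : n → KK k Q) :
    DD a T s x (DD a T s y v) = DD a T s (x * y) v := by
  rw [DD.eq_1 a T s y, DD_mK, DD, mul_assoc, ← mul_assoc (T x), h.Ts, mul_assoc (s _), ← mul_assoc, ← h.smul,
    ← map_mul T, map_mul a, map_mul (kap k Q), show x⁻¹ * (x * y⁻¹ * x⁻¹) = (x * y)⁻¹ by group]
  rfl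

theorem hypH [CharP k p] [Nonempty n] (h : CD p u φ ψ a T s i) (h1 : N1 p u φ) (S : Matrix n n (KK k Q))
    (hS : genX u * S = S * genX u) : ∃ (c : KK k Q) (ν : Matrix n n (KK k Q)), IsNilpotent ν ∧
      ν * genX u = genX u * ν ∧ ν * mK Q i = mK Q i * ν ∧ ∀ v, genX u *ᵥ v = 0 → mK Q i *ᵥ v = v →
        InI p (genX u) (mK Q i *ᵥ S *ᵥ v - (c • v + ν *ᵥ v)) := by
  obtain ⟨z, z0, hz⟩ := h1 S hS
  have : ∀ ω, ∃ t : k, ∀ q v, mK Q i *ᵥ v = v →
      mK Q i *ᵥ (z ω q • mK Q (φ ω * u q) *ᵥ v) = (z ω q * algebraMap k _ t) • mK Q (u q) *ᵥ v := fun ω => by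
    by_cases e : Fx Q ω
    · obtain ⟨t, ht⟩ := h.prim ω e
      refine ⟨t, fun q v hv => ?_⟩
      conv_lhs => rw [← hv]
      conv_rhs => rw [← hv]
      rw [mulVec_smul, mulVec_mulVec, mulVec_mulVec, mulVec_mulVec, ← map_mul, ← map_mul, ← map_mul, mul_assoc,
        mul_assoc, ← h.iu, ← mul_assoc, ← mul_assoc, ht, smul_mul_assoc, mK_smul, smul_mulVec, smul_smul]
    · exact ⟨0, fun q v _ => by simp [z0 ω q e]⟩
  choose t ht using this
  refine ⟨∑ q, ∑ ω, z ω q * algebraMap k _ (t ω), ∑ q, (∑ ω, z ω q * algebraMap k _ (t ω)) • (mK Q (u q) - 1),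
    ⟨p, nu_pow h.exp _⟩, (comm_nu _ fun q => (comm_X (comm_u q)).symm).symm.eq, (comm_mK _ h.iu).symm.eq,
    fun v v1 v2 => ?_⟩
  have := mulVec_mem (comm_X h.iu) (inI_iff.1 (hz v v1))
  rw [mulVec_sub, mulVec_sum] at this
  simp only [mulVec_sum, ht _ _ v v2] at this
  rw [Finset.sum_comm] at this
  refine inI_iff.2 (by
    convert this using 2
    rw [sum_mulVec, Finset.sum_smul, ← Finset.sum_add_distrib]
    refine Finset.sum_congr rfl fun q _ => ?_
    rw [smul_mulVec, sub_mulVec, one_mulVec, ← smul_add, add_sub_cancel, Finset.sum_smul])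

omit hp in
theorem hypN (h : CD p u φ ψ a T s i) (h2 : N2 p u φ) {v : n → KK k Q} (v1 : genX u *ᵥ v = 0)
    (v2 : ¬ InI p (genX u) v) : ∃ v, genX u *ᵥ v = 0 ∧ mK Q i *ᵥ v = v ∧ ¬ InI p (genX u) v := by
  obtain ⟨b, b1, b2, b3⟩ := h.br
  obtain ⟨m, A, B, hA, hB, e⟩ := h.full
  have k1 := inI_iff.1 (h2 b b1 b2 v v1)
  rw [← b3, map_sub, map_one, sub_mulVec, one_mulVec] at k1
  by_contra! H
  refine v2 (inI_iff.2 ((Submodule.sub_mem_iff_left _ ?_).1 k1))
  rw [e, map_sum, sum_mulVec]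
  refine Submodule.sum_mem _ fun t _ => ?_
  rw [map_mul, map_mul, ← mulVec_mulVec, ← mulVec_mulVec]
  exact mulVec_mem (comm_X (hA t)) (inI_iff.1 (H _ (ker_mulVec (comm_X h.iu).eq (ker_mulVec (comm_X (hB t)).eq v1))
    (by rw [mulVec_mulVec, ← map_mul, h.ii])))

end Core

open CL.DG.Core in
theorem coreS (h1 : H1S.{u}) (hT : TwS.{u} p) (hF : FreeS.{u} p) (hL : LineS.{u} p) : CoreS.{u} p := by
  intro k _ _ Q Ω Γ _ _ _ _ _ _ n _ _ u φ ψ a T s i h
  have : Nonempty n := Fintype.card_pos_iff.1 (Nat.pos_of_ne_zero fun e => h.deg (by rw [e, Nat.cast_zero]))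
  have : CharP (KK k Q) p := charP_of_injective_algebraMap (algebraMap k (KK k Q)).injective p
  have inj := (algebraMap k (KK k Q)).injective
  obtain ⟨n1, n2⟩ := hT k Q Ω n u φ ψ h.toTD
  obtain ⟨v, v1, v2⟩ := hF (KK k Q) n (genX u) (nu_pow h.exp _) fun e => h.deg (inj (by simpa using e))
  obtain ⟨l, l1, l2, l3, hl⟩ := hL (KK k Q) n (genX u) (mK Q i) (comm_X h.iu).eq (hypH h n1) (hypN h n2 v1 v2)
  rw [inI_iff] at l3
  choose f hf using fun x => hl (DD a T s x l) (by
      rw [← DD_X h, l1, DD, show ⇑(kap k Q (a x)) ∘ (0 : n → KK k Q) = 0 from funext fun _ => map_zero _, mulVec_zero])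
    (by conv_rhs => rw [← l2, DD_mK, h.Ti, map_mul, ← mulVec_mulVec]
        rfl)
  simp only [inI_iff] at hf
  have sl : mK Q (s 1) *ᵥ l = l := by rw [← l2, mulVec_mulVec, ← map_mul, h.si]
  have k1 : ∀ x (c : k), a x = 1 → s x⁻¹ * T x = c • s 1 → f x = algebraMap k _ c := fun x c e1 e2 =>
    uniq l3 (hf x) (by
      rw [DD, e1, e2, map_one, mK_smul, smul_mulVec, show ⇑(1 : RingAut (KK k Q)) ∘ l = l from rfl, sl, sub_self]
      exact zero_mem _)
  have f1 : f 1 = 1 := by rw [k1 1 1 (map_one a) (by simp), map_one]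
  have fm : ∀ x y, f (x * y) = f x * kap k Q (a x) (f y) := fun x y => uniq l3 (hf _) (by
    have := add_mem (DD_mem h x (hf y)) (Submodule.smul_mem _ (kap k Q (a x) (f y)) (hf x))
    rwa [DD_sub, DD_DD h, smul_sub, sub_add_sub_cancel, smul_smul, mul_comm] at this)
  obtain ⟨t, t0, ht⟩ := h1 k Q Γ ((kap k Q).comp a) (fun x r => ⟨_, kap_R _ r⟩) f f1 fm
  choose c hc using ht
  simp only [MonoidHom.comp_apply] at hc
  let μ : Γ →* k :=
    { toFun := c
      map_one' := inj (mul_right_cancel₀ t0 (by rw [← hc, f1, map_one, map_one, map_one]; rfl))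
      map_mul' := fun x y => inj (mul_right_cancel₀ t0 (by
        rw [← hc, fm, map_mul, map_mul, RingAut.mul_apply, mul_assoc, ← map_mul, hc, map_mul, kap_k, mul_left_comm,
          hc, map_mul]
        ring)) }
  refine ⟨μ.toHomUnits, fun x d e1 e2 => inj (mul_right_cancel₀ t0 ?_)⟩
  rw [MonoidHom.coe_toHomUnits, ← k1 x d e1 e2]
  exact (hc x).symm.trans (by rw [e1, map_one]; rfl)

end CL.DG
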