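import Cfsg.Agent.DG.Defs
import Mathlib.RingTheory.Polynomial.UniqueFactorization
import Mathlib.RingTheory.UniqueFactorizationDomain.GCDMonoid
import Mathlib.Algebra.MvPolynomial.Nilpotent
import Mathlib.Algebra.GCDMonoid.Finset
import Mathlib.RingTheory.Localization.Integer

/-! Project DG, job H1: cocycles in the field of rational functions. -/

namespace CL.DG

universe u

namespace H1

/-- The greatest common divisor of a finite family of fractions. -/
theorem exists_gcd {R K ι : Type*} [CommRing R] [IsDomain R] [NormalizedGCDMonoid R] [Field K]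
    [Algebra R K] [IsFractionRing R K] [Finite ι] (f : ι → K) {i₀ : ι} (h₀ : f i₀ ≠ 0) :
    ∃ t : K, t ≠ 0 ∧ (∀ y, ∃ r, algebraMap R K r = f y / t) ∧
      ∀ w, w ≠ 0 → (∀ y, ∃ r, algebraMap R K r = f y / w) → ∃ r, algebraMap R K r = t / w := by
  classical
  cases nonempty_fintype ι
  have inj := IsFractionRing.injective R K
  have ne : ∀ {r : R}, r ≠ 0 → algebraMap R K r ≠ 0 := fun h => (map_ne_zero_iff _ inj).2 h
  obtain ⟨⟨b, hb⟩, h⟩ := IsLocalization.exist_integer_multiples_of_finite (nonZeroDivisors R) f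
  choose a ha using h
  simp only [Algebra.smul_def] at ha
  have hb0 := ne (nonZeroDivisors.ne_zero hb)
  have hg : Finset.univ.gcd a ≠ 0 := fun e => by
    have := ha i₀
    rw [Finset.gcd_eq_zero_iff.1 e i₀ (Finset.mem_univ _), map_zero] at this
    exact mul_ne_zero hb0 h₀ this.symm
  have hg0 := ne hg
  refine ⟨algebraMap R K (Finset.univ.gcd a) / algebraMap R K b, div_ne_zero hg0 hb0, fun y => ?_,
    fun w hw h => ?_⟩
  · obtain ⟨r, hr⟩ := Finset.gcd_dvd (f := a) (Finset.mem_univ y)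
    refine ⟨r, ?_⟩
    have := ha y
    rw [hr, map_mul] at this
    field_simp
    rw [mul_comm, this, mul_comm]
  · obtain ⟨c, d, hd, rfl⟩ := IsFractionRing.div_surjective R w
    have hd0 := ne (nonZeroDivisors.ne_zero hd)
    have hc0 : algebraMap R K c ≠ 0 := fun e => hw (by rw [e, zero_div])
    obtain ⟨r, hr⟩ : b * c ∣ Finset.univ.gcd a * d := by
      refine (Finset.dvd_gcd fun y _ => ?_).trans (Finset.gcd_mul_right' _ a d).dvd
      obtain ⟨r, hr⟩ := h y
      refine ⟨r, inj ?_⟩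
      rw [map_mul, map_mul, map_mul, ha y, hr]
      field_simp
    refine ⟨r, ?_⟩
    have := congrArg (algebraMap R K) hr
    rw [map_mul, map_mul, map_mul] at this
    field_simp
    rw [this]
    ring

end H1

theorem h1S : H1S.{u} := by
  intro k _ Q Γ _ _ κ hκ f h1 hf
  let _ : NormalizedGCDMonoid (RR k Q) := Classical.arbitrary _
  have e1 : ∀ x, f x * κ x (f x⁻¹) = 1 := fun x => by rw [← hf, mul_inv_cancel, h1]
  have f0 : ∀ x, f x ≠ 0 := fun x => left_ne_zero_of_mul_eq_one (e1 x)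
  obtain ⟨t, ht, hA, hB⟩ := H1.exists_gcd (R := RR k Q) f (f0 1)
  have k0 : ∀ x, κ x t ≠ 0 := fun x => (map_ne_zero_iff _ (κ x).injective).2 ht
  have key : ∀ x, ∃ r, algebraMap (RR k Q) (KK k Q) r = t / (f x * κ x t) := fun x =>
    hB _ (mul_ne_zero (f0 x) (k0 x)) fun y => by
      obtain ⟨r, hr⟩ := hA (x⁻¹ * y)
      obtain ⟨r', hr'⟩ := hκ x r
      refine ⟨r', ?_⟩
      have := hf x (x⁻¹ * y)
      rw [mul_inv_cancel_left] at this
      rw [← hr', hr, map_div₀, this, mul_div_mul_left _ _ (f0 x)]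
  refine ⟨t, ht, fun x => ?_⟩
  obtain ⟨r, hr⟩ := key x
  obtain ⟨s, hs⟩ := key x⁻¹
  obtain ⟨s', hs'⟩ := hκ x s
  have e2 : κ x (κ x⁻¹ t) = t := by
    rw [← RingAut.mul_apply, ← map_mul, mul_inv_cancel, map_one, RingAut.one_apply]
  have e3 : algebraMap (RR k Q) (KK k Q) s' * t = f x * κ x t := by
    have e4 : κ x (f x⁻¹) = (f x)⁻¹ := eq_inv_of_mul_eq_one_right (e1 x)
    have := f0 x
    rw [← hs', hs, map_div₀, map_mul, e2, e4]
    field_simp
  have e5 : s' * r = 1 := IsFractionRing.injective (RR k Q) (KK k Q) (by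
    rw [map_mul, hr, map_one, ← mul_div_assoc, e3, div_self (mul_ne_zero (f0 x) (k0 x))])
  obtain ⟨c, -, rfl⟩ := MvPolynomial.isUnit_iff_eq_C_of_isReduced.1 (IsUnit.of_mul_eq_one _ e5)
  exact ⟨c, by rw [← e3, IsScalarTower.algebraMap_apply k (RR k Q) (KK k Q)]; rfl⟩

end CL.DG
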