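import Cfsg.Agent.DG.Step

/-! Project DG: Dade's theorem by induction on the order of the normal `p'`-subgroup. -/

namespace CL.DG

open Cfsg CL.Char CL.Blk Subgroup
open scoped commutatorElement

universe u

variable {p : ℕ} [hp : Fact p.Prime]

namespace Ind

open Step

variable {G : Type*} [Group G]

/-- The elements of `P` acting on `N` as central elements of order dividing `p` of the image of `P`. -/
def om (p : ℕ) (N P : Subgroup G) [N.Normal] : Subgroup G where
  carrier := {x | x ∈ P ∧ (MulAut.conjNormal x : MulAut N) ^ p = 1 ∧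
    ∀ y ∈ P, Commute (MulAut.conjNormal x : MulAut N) (MulAut.conjNormal y)}
  mul_mem' {a b} ha hb := ⟨mul_mem ha.1 hb.1,
    by rw [map_mul, (ha.2.2 b hb.1).mul_pow, ha.2.1, hb.2.1, one_mul],
    fun y hy => by rw [map_mul]; exact (ha.2.2 y hy).mul_left (hb.2.2 y hy)⟩
  one_mem' := ⟨one_mem _, by rw [map_one, one_pow], fun y _ => by rw [map_one]; exact Commute.one_left _⟩
  inv_mem' {a} ha := ⟨inv_mem ha.1, by rw [map_inv, inv_pow, ha.2.1, inv_one],
    fun y hy => by rw [map_inv]; exact (ha.2.2 y hy).inv_left⟩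

omit hp in
theorem conj_mem_om {N P : Subgroup G} [N.Normal] {g x : G} (hg : g ∈ normalizer (P : Set G))
    (hx : x ∈ om p N P) : g * x * g⁻¹ ∈ om p N P := by
  refine ⟨(mem_normalizer_iff.1 hg x).1 hx.1, ?_, fun y hy => ?_⟩
  · rw [map_mul, map_mul, map_inv, conj_pow, hx.2.1, mul_one, mul_inv_cancel]
  · have h1 := hx.2.2 _ ((mem_normalizer_iff''.1 hg y).1 hy)
    have h2 := h1.map (MulAut.conj (MulAut.conjNormal g : MulAut N))
    simp only [map_mul, map_inv, MulAut.conj_apply] at h2 ⊢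
    convert h2 using 1
    group

omit hp in
theorem norm_le_om (N P : Subgroup G) [N.Normal] :
    normalizer (P : Set G) ≤ normalizer (om p N P : Set G) := fun g hg =>
  mem_normalizer_iff.2 fun x => ⟨conj_mem_om hg, fun hx => by
    simpa [mul_assoc] using conj_mem_om (inv_mem hg) hx⟩

theorem om_not_le [Finite G] {N P : Subgroup G} [N.Normal] (hP : IsPGroup p P)
    (h : ¬ P ≤ centralizer (N : Set G)) : ¬ om p N P ≤ centralizer (N : Set G) := by
  intro h1
  let Q := P.map (MulAut.conjNormal : G →* MulAut N)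
  have hQ : IsPGroup p Q := hP.map _
  have : Nontrivial Q := (nontrivial_iff_ne_bot _).2 fun e => h fun x hx =>
    conj_eq_one_iff.1 (mem_bot.1 (e.le (mem_map_of_mem _ hx)))
  have := hQ.center_nontrivial
  obtain ⟨k, hk0, hk⟩ := (hQ.to_subgroup (center Q)).nontrivial_iff_card.1 inferInstance
  obtain ⟨⟨⟨_, x, hx, rfl⟩, hz⟩, ho⟩ := exists_prime_orderOf_dvd_card' (G := center Q) p
    (hk ▸ dvd_pow_self p hk0.ne')
  have h2 : x ∈ om p N P := ⟨hx, congrArg (fun z : center Q => (z.1 : MulAut N)) (ho ▸ pow_orderOf_eq_one _ :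
      (⟨⟨_, x, hx, rfl⟩, hz⟩ : center Q) ^ p = 1),
    fun y hy => (congrArg Subtype.val (mem_center_iff.1 hz ⟨_, y, hy, rfl⟩)).symm⟩
  rw [show (⟨⟨_, x, hx, rfl⟩, hz⟩ : center Q) = 1 from
    Subtype.ext (Subtype.ext (conj_eq_one_iff.2 (h1 h2))), orderOf_one] at ho
  exact hp.out.ne_one ho.symm

end Ind

open Step Ind

theorem dgS_aux (hS : StepS.{u} p) (n : ℕ) : ∀ (G : Type u) [Group G] [Finite G] (N P : Subgroup G)
    [N.Normal], Nat.card N = n → ¬ p ∣ Nat.card N → IsPGroup p P → DGat p N P := by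
  induction n using Nat.strong_induction_on with
  | _ n ih =>
  intro G _ _ N P _ hn hN hP
  by_cases h0 : P ≤ centralizer (N : Set G)
  · exact hS G N P hN hP (fun x hx => h0 (pow_mem hx p)) fun x hx y hy =>
      h0 (mul_mem (mul_mem (mul_mem hx hy) (inv_mem hx)) (inv_mem hy))
  intro H _ h hh hhN hCh χ hχ hθ
  have h1 : om p N P ≤ P := fun _ hx => hx.1
  have hP1 : IsPGroup p (om p N P) := hP.to_le h1
  set G1 := normalizer (om p N P : Set G)
  have hC1 : N ⊓ centralizer (om p N P : Set G) ≤ G1.subtype.range := by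
    rw [range_subtype]; exact inf_le_right.trans (centralizer_le_normalizer _)
  obtain ⟨η₁, hη₁, hη₁', r₁⟩ := hS G N (om p N P) hN hP1
    (fun x hx => conj_eq_one_iff.1 (by rw [map_pow]; exact hx.2.1))
    (fun x hx y hy => conj_eq_one_iff.1 (by
      rw [map_commutatorElement, commutatorElement_eq_one_iff_mul_comm]; exact hx.2.2 y hy.1))
    G1 G1.subtype (subtype_injective _) (range_subtype _).le hC1 χ hχ hθ
  have hj : Function.Injective (G1.subtype.subgroupComap N) := fun a b e =>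
    Subtype.ext (Subtype.ext (congrArg (fun x : N => (x : G)) e))
  have hlt : Nat.card (N.comap G1.subtype) < n := by
    rw [← hn, Nat.card_congr (MonoidHom.ofInjective hj).toEquiv]
    refine CL.Grp.card_lt_of_ne_top fun e => om_not_le hP h0 (le_centralizer_iff.1 fun m hm => ?_)
    exact (mem_range_iff hN hP1 (range_subtype _).le hC1 ⟨m, hm⟩).1 (e.ge (mem_top _))
  have hPG : P ≤ G1 := le_normalizer.trans (norm_le_om N P)
  have hhG : ∀ x, h x ∈ G1 := fun x => norm_le_om N P (hhN ⟨x, rfl⟩)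
  obtain ⟨η, hη, hη', r⟩ := ih _ hlt G1 (N.comap G1.subtype) (P.subgroupOf G1) rfl
    (fun e => hN (e.trans (card_comap_dvd_of_injective _ _ (subtype_injective _))))
    (hP.comap_of_injective _ (subtype_injective _)) H (h.codRestrict G1 hhG)
    (fun a b e => hh (congrArg Subtype.val e))
    (by rintro _ ⟨x, rfl⟩; exact le_normalizer_comap G1.subtype (hhN ⟨x, rfl⟩))
    (fun x hx => by
      obtain ⟨a, ha⟩ := hCh (⟨hx.1, fun y hy => congrArg Subtype.val (hx.2 ⟨y, hPG hy⟩ hy)⟩ :
        (x : G) ∈ N ⊓ centralizer (P : Set G))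
      exact ⟨a, Subtype.ext ha⟩) η₁ hη₁ hη₁'
  exact ⟨η, hη, hη', r₁.trans r⟩

theorem dgS (h : StepS.{u} p) : DGS.{u} p := fun G _ _ N P _ hN hP => dgS_aux h _ G N P rfl hN hP

end CL.DG
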