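import Cfsg.Agent.DG.Defs

/-! Project DG, job LINE: the non-free part of a module for a nilpotent matrix. -/

namespace CL.DG

open Matrix Module

universe u

namespace Line

variable {K : Type*} [Field K] {n : Type} [Fintype n] [DecidableEq n]

/-- The image of a power. -/
abbrev im (X : Matrix n n K) (j : ℕ) : Submodule K (n → K) := LinearMap.range (X ^ j).mulVecLin

theorem mem_im {X : Matrix n n K} {j : ℕ} {v : n → K} : v ∈ im X j ↔ ∃ w, v = X ^ j *ᵥ w :=
  exists_congr fun _ => eq_comm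

theorem im_anti (X : Matrix n n K) {j l : ℕ} (h : j ≤ l) : im X l ≤ im X j := fun v hv => by
  obtain ⟨w, rfl⟩ := mem_im.1 hv
  obtain ⟨c, rfl⟩ := Nat.exists_eq_add_of_le h
  exact mem_im.2 ⟨X ^ c *ᵥ w, by rw [mulVec_mulVec, pow_add]⟩

theorem rank_step (X : Matrix n n K) {j : ℕ} (h : LinearMap.ker X.mulVecLin ≤ im X j) :
    finrank K (im X j) = finrank K (im X (j + 1)) + finrank K (LinearMap.ker X.mulVecLin) := by
  rw [← LinearMap.finrank_range_add_finrank_ker (X.mulVecLin.domRestrict (im X j)),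
    LinearMap.range_domRestrict, LinearMap.ker_domRestrict,
    (Submodule.comapSubtypeEquivOfLe h).finrank_eq, ← LinearMap.range_comp, ← mulVecLin_mul,
    ← pow_succ']

theorem mem_of_nil {ν : Matrix n n K} (hν : IsNilpotent ν) {I : Submodule K (n → K)}
    (hI : ∀ v ∈ I, ν *ᵥ v ∈ I) {v : n → K} {d : K} (hd : d ≠ 0) (h : ν *ᵥ v - d • v ∈ I) :
    v ∈ I := by
  have key : ∀ N : ℕ, ν ^ N *ᵥ v - d ^ N • v ∈ I := fun N => by
    induction N with
    | zero => simp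
    | succ N ih =>
      have : ν ^ (N + 1) *ᵥ v - d ^ (N + 1) • v =
          ν *ᵥ (ν ^ N *ᵥ v - d ^ N • v) + d ^ N • (ν *ᵥ v - d • v) := by
        rw [mulVec_sub, mulVec_mulVec, ← pow_succ', mulVec_smul, smul_sub, smul_smul, ← pow_succ]
        abel
      exact this ▸ I.add_mem (hI _ ih) (I.smul_mem _ h)
  obtain ⟨N, hN⟩ := hν
  have := key N
  rwa [hN, zero_mulVec, zero_sub, neg_mem_iff, I.smul_mem_iff (pow_ne_zero N hd)] at this

/-- A matrix commuting with `X` which acts on the kernel of `X` as `v ↦ l v • X ^ m w`. -/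
theorem exists_comm (X : Matrix n n K) (m : ℕ) (w : n → K) (l : (n → K) →ₗ[K] K)
    (hw : X ^ (m + 1) *ᵥ w = 0) (hl : ∀ v, l (X ^ (m + 1) *ᵥ v) = 0) :
    ∃ E, X * E = E * X ∧ ∀ v, X *ᵥ v = 0 → E *ᵥ v = l v • X ^ m *ᵥ w := by
  obtain ⟨W, hW⟩ : ∃ W : Matrix n n K, ∀ v, W *ᵥ v = l v • w :=
    ⟨LinearMap.toMatrix' (l.smulRight w), fun v => by
      rw [← toLin'_apply, toLin'_toMatrix', LinearMap.smulRight_apply]⟩
  have h1 : X ^ (m + 1) * W = 0 := toLin'.injective (LinearMap.ext fun v => by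
    rw [toLin'_apply, toLin'_apply, ← mulVec_mulVec, hW, mulVec_smul, hw, smul_zero, zero_mulVec])
  have h2 : W * X ^ (m + 1) = 0 := toLin'.injective (LinearMap.ext fun v => by
    rw [toLin'_apply, toLin'_apply, ← mulVec_mulVec, hW, hl, zero_smul, zero_mulVec])
  refine ⟨∑ a ∈ Finset.range (m + 1), X ^ a * W * X ^ (m - a), ?_, fun v hv => ?_⟩
  · have := Finset.sum_range_sub (fun a => X ^ a * W * X ^ (m + 1 - a)) (m + 1)
    rw [h1, pow_zero, one_mul, Nat.sub_zero, h2, zero_mul, sub_zero, Finset.sum_sub_distrib,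
      sub_eq_zero] at this
    rw [Finset.mul_sum, Finset.sum_mul]
    refine (Finset.sum_congr rfl fun a _ => ?_).trans (this.trans (Finset.sum_congr rfl
      fun a ha => ?_))
    · rw [Nat.add_sub_add_right, pow_succ', mul_assoc, mul_assoc, mul_assoc]
    · rw [mul_assoc _ _ X, ← pow_succ, Nat.sub_add_comm (Nat.lt_succ_iff.1 (Finset.mem_range.1 ha))]
  · rw [Finset.sum_range_succ, add_mulVec, Nat.sub_self, pow_zero, mul_one, ← mulVec_mulVec, hW,
      mulVec_smul, sum_mulVec, Finset.sum_eq_zero fun a ha => ?_, zero_add]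
    obtain ⟨c, hc⟩ := Nat.exists_eq_succ_of_ne_zero (Nat.sub_ne_zero_of_lt (Finset.mem_range.1 ha))
    rw [hc, pow_succ, ← mul_assoc, ← mulVec_mulVec, hv, mulVec_zero]

end Line

open Line

variable {p : ℕ}

theorem freeS : FreeS.{u} p := by
  intro K _ _ n _ _ X hX hn
  by_contra! h
  have h1 : ∀ j ≤ p, Fintype.card n =
      finrank K (im X j) + j * finrank K (LinearMap.ker X.mulVecLin) := fun j hj => by
    induction j with
    | zero =>
      rw [im, pow_zero, mulVecLin_one, LinearMap.range_id, finrank_top, finrank_fintype_fun_eq_card,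
        zero_mul, add_zero]
    | succ j ih =>
      rw [ih (by omega), rank_step X fun v hv =>
        im_anti X (show j ≤ p - 1 by omega) (mem_im.2 (h v hv))]
      ring
  have h2 := h1 p le_rfl
  rw [im, hX, mulVecLin_zero, LinearMap.range_zero, finrank_bot, zero_add] at h2
  exact hn (by rw [h2, Nat.cast_mul, CharP.cast_eq_zero, zero_mul])

theorem lineS : LineS.{u} p := by
  classical
  intro K _ n _ _ X i _ H hv
  have ex : ∃ j, ∃ v, X *ᵥ v = 0 ∧ i *ᵥ v = v ∧ v ∉ im X j :=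
    ⟨p - 1, hv.imp fun v h => ⟨h.1, h.2.1, fun e => h.2.2 (mem_im.1 e)⟩⟩
  have hle : Nat.find ex ≤ p - 1 :=
    Nat.find_min' ex (hv.imp fun v h => ⟨h.1, h.2.1, fun e => h.2.2 (mem_im.1 e)⟩)
  obtain ⟨v₀, h1, h2, h3⟩ := Nat.find_spec ex
  obtain ⟨m, hm⟩ := Nat.exists_eq_succ_of_ne_zero (n := Nat.find ex) fun e =>
    h3 (mem_im.2 ⟨v₀, by rw [e, pow_zero, one_mulVec]⟩)
  obtain ⟨w, hw⟩ : ∃ w, v₀ = X ^ m *ᵥ w := by
    by_contra h
    exact Nat.find_min ex (show m < Nat.find ex by omega) ⟨v₀, h1, h2, fun e => h (mem_im.1 e)⟩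
  rw [hm] at h3 hle
  obtain ⟨f, hf, hf'⟩ := Submodule.exists_le_ker_of_notMem h3
  obtain ⟨E, hE, hE'⟩ := exists_comm X m w ((f v₀)⁻¹ • f)
    (by rw [pow_succ', ← mulVec_mulVec, ← hw, h1])
    (fun v => by rw [LinearMap.smul_apply, hf' (mem_im.2 ⟨v, rfl⟩), smul_zero])
  obtain ⟨l, hl, hE'⟩ : ∃ l : (n → K) →ₗ[K] K, l v₀ = 1 ∧ ∀ v, X *ᵥ v = 0 → E *ᵥ v = l v • v₀ :=
    ⟨_, inv_mul_cancel₀ hf, fun v hv => by rw [hE' v hv, ← hw]⟩
  obtain ⟨c, ν, hν, hνX, -, hc⟩ := H E hE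
  have hI : ∀ v ∈ im X (p - 1), ν *ᵥ v ∈ im X (p - 1) := fun v hv => by
    obtain ⟨w, rfl⟩ := mem_im.1 hv
    exact mem_im.2 ⟨ν *ᵥ w, by
      rw [mulVec_mulVec, mulVec_mulVec, ((show Commute ν X from hνX).pow_right _).eq]⟩
  have h4 : v₀ ∉ im X (p - 1) := fun e => h3 (im_anti X hle e)
  have h5 : c = 1 := by
    by_contra e
    refine h4 (mem_of_nil hν hI (sub_ne_zero.2 (Ne.symm e)) ?_)
    have := neg_mem (mem_im.2 (hc v₀ h1 h2))
    rw [hE' v₀ h1, hl, one_smul, h2] at this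
    convert this using 1
    rw [sub_smul, one_smul]
    abel
  refine ⟨v₀, h1, h2, fun e => h4 (mem_im.2 e), fun v k1 k2 => ⟨l v, mem_im.1 ?_⟩⟩
  have k3 : X *ᵥ (v - l v • v₀) = 0 := by rw [mulVec_sub, mulVec_smul, k1, h1, smul_zero, sub_zero]
  have k4 : i *ᵥ (v - l v • v₀) = v - l v • v₀ := by rw [mulVec_sub, mulVec_smul, k2, h2]
  refine mem_of_nil hν hI (d := -1) (by simp) ?_
  have := neg_mem (mem_im.2 (hc _ k3 k4))
  rw [hE' _ k3, map_sub, map_smul, hl, smul_eq_mul, mul_one, sub_self, zero_smul, mulVec_zero,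
    h5] at this
  convert this using 1
  rw [neg_smul]
  abel

end CL.DG
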