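import Cfsg.Agent.DG.Defs

/-! Project DG, job MID: the data of the core step, built from the group algebras. -/

namespace CL.DG

open Cfsg CL.Char CL.Blk Matrix Subgroup MonoidAlgebra
open scoped MonoidAlgebra IsMulCommutative

universe u

variable {p : ℕ} [hp : Fact p.Prime]

namespace Mid

variable {k : Type} [Field k] {N C D : Type u} [Group N] [Group C] [Group D]

theorem mapA_mapA (f : C →* N) (g : D →* C) (b : k[D]) : mapA k f (mapA k g b) = mapA k (f.comp g) b :=
  (DFunLike.congr_fun (mapDomainAlgHom_comp g f) b).symm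

theorem map_single (f : C →* N) (a : C) : mapA k f (single a 1) = single (f a) 1 := mapDomain_single

theorem coeff_map {f : C →* N} (hf : Function.Injective f) (b : k[C]) (a : C) :
    (mapA k f b).coeff (f a) = b.coeff a := Finsupp.mapDomain_apply hf _ _

theorem alg_sum [Fintype N] {A : Type} [Ring A] [Algebra k A] (Φ : k[N] →ₐ[k] A) (b : k[N]) :
    ∑ ω, b.coeff ω • Φ (single ω 1) = Φ b := by
  conv_rhs => rw [eq_sum_single b, map_sum]
  exact Finset.sum_congr rfl fun ω _ => by rw [← map_smul, MonoidAlgebra.smul_single, smul_eq_mul, mul_one]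

theorem eq_one_of_comm [CharP k p] {d : ℕ} (hd : (d : k) ≠ 0) {A : Matrix (Fin d) (Fin d) k}
    (h : ∀ s, A * s = s * A) {n : ℕ} (hn : A ^ p ^ n = 1) : A = 1 := by
  obtain ⟨t, rfl⟩ := mem_range_scalar_iff_commute_single'.2 fun i j => (h (Matrix.single i j 1)).symm
  have : Nonempty (Fin d) := ⟨⟨0, Nat.pos_of_ne_zero (by rintro rfl; simp at hd)⟩⟩
  rw [← map_pow, ← map_one (scalar (Fin d)), scalar_inj, ← sub_eq_zero, ← one_pow (p ^ n),
    ← sub_pow_char_pow] at hn
  rw [sub_eq_zero.1 (pow_eq_zero_iff (pow_ne_zero n hp.out.ne_zero) |>.1 hn), map_one]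

end Mid

open Mid in
theorem midS (hC : CoreS.{u} p) (hW : WedS.{u}) (hP : PrimS.{u}) : MidS.{u} p := by
  intro k _ _ _ N G C Γ _ _ _ _ _ _ _ _ hN hC' ι c hι P pP hexp hcomm e σ he hσ j hj hfix ι' c' g hg hjc hgι
    e' σ' he' hσ' hee
  classical
  obtain ⟨d, Φ, ψ, hd, h1, h2⟩ := hW k N hN e he
  obtain ⟨i0, ii, ei, hprim, m, A0, B0, hfull⟩ := hP k C hC' e' he'
  have := Fintype.ofFinite N
  have Φe : Φ e = 1 := by rw [← one_mul e, ← h2, h1, map_one]
  let T0 : G →* Matrix (Fin d) (Fin d) k :=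
    ⟨⟨fun x => Φ (σ x), by rw [hσ.one, Φe]⟩, fun x y => by simp only [hσ.mul, map_mul]⟩
  let F : k[C] →ₐ[k] Matrix (Fin d) (Fin d) k := Φ.comp (mapA k j)
  have KC : ∀ x b, T0 x * Φ b = Φ (mapA k (c x : N →* N) b) * T0 x := fun x b => by
    rw [← show Φ (σ x) = T0 x from rfl, ← map_mul, hσ.conj, map_mul]
  have ce : ∀ x, mapA k (c x : N →* N) e = e := fun x => by rw [← hσ.one, hσ.map, mul_one, mul_inv_cancel]
  have cJ : ∀ x ∈ P, ∀ b, mapA k (c x : N →* N) (mapA k j b) = mapA k j b := fun x hx b => by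
    rw [mapA_mapA]; congr 2; ext a; exact (hfix _).1 ⟨a, rfl⟩ x hx
  have KP : ∀ x ∈ P, ∀ b, F b * T0 x = T0 x * F b := fun x hx b => by
    rw [show F b = Φ (mapA k j b) from rfl, KC, cJ x hx]
  have KG : ∀ x b, T0 (g x) * F b = F (mapA k (c' x : C →* C) b) * T0 (g x) := fun x b => by
    rw [show F b = Φ (mapA k j b) from rfl, KC, mapA_mapA]
    change _ = Φ (mapA k j _) * _
    rw [mapA_mapA]; congr 4; ext a; exact (hjc x a).symm
  have wd : ∀ x ∈ P, ∀ y ∈ P, c x = c y → T0 x = T0 y := fun x hx y hy h => by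
    obtain ⟨n, hn⟩ := pP ⟨x⁻¹ * y, mul_mem (inv_mem hx) hy⟩
    rw [← mul_inv_cancel_left x y, map_mul, eq_one_of_comm (p := p) hd (A := T0 (x⁻¹ * y)) (n := n) (fun s => ?_)
      (by rw [← map_pow, show (x⁻¹ * y) ^ p ^ n = 1 from congrArg Subtype.val hn, map_one]), mul_one]
    rw [← h1 s, KC, map_mul, map_inv, h, inv_mul_cancel]
    congr 2
    exact DFunLike.congr_fun mapDomainAlgHom_id _
  have : IsMulCommutative (P.map c) := ⟨⟨by
    rintro ⟨_, x, hx, rfl⟩ ⟨_, y, hy, rfl⟩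
    exact Subtype.ext (hcomm x hx y hy)⟩⟩
  have : Finite (P.map c) := Finite.of_surjective _ (c.subgroupMap_surjective P)
  have := Fintype.ofFinite (P.map c)
  choose sec hs1 hs2 using fun q : P.map c => q.2
  let u : P.map c →* Matrix (Fin d) (Fin d) k :=
    ⟨⟨fun q => T0 (sec q), (wd _ (hs1 1) 1 (one_mem P) ((hs2 1).trans c.map_one.symm)).trans T0.map_one⟩,
      fun q r => (wd _ (hs1 _) _ (mul_mem (hs1 q) (hs1 r)) (by rw [map_mul, hs2, hs2, hs2]; rfl)).trans
        (T0.map_mul _ _)⟩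
  have hu : ∀ (q : P.map c), ∀ x ∈ P, c x = q → u q = T0 x := fun q x hx h => wd _ (hs1 q) x hx ((hs2 q).trans h.symm)
  have uF : ∀ b q, F b * u q = u q * F b := fun b q => KP _ (hs1 q) b
  have sm : ∀ (q : P.map c) (ω : N), q • ω = (c (sec q) : N →* N) ω := fun q ω => by rw [hs2]; rfl
  have fx : ∀ ω, Fx (P.map c) ω → ∃ a, j a = ω := fun ω h =>
    (hfix ω).2 fun x hx => h ⟨c x, mem_map_of_mem c hx⟩
  let a : Γ →* MulAut (P.map c) := (P.map c).normalizerMonoidHom.comp ((c.comp g).codRestrict _ fun x =>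
    le_normalizer_map c (mem_map_of_mem c (hg ⟨x, rfl⟩)))
  have ha : ∀ x q, (a x q : MulAut N) = c (g x * sec q * (g x)⁻¹) := fun x q => by
    rw [map_mul, map_mul, map_inv, hs2]; rfl
  have ha1 : ∀ x, (∀ y ∈ P, g x * y = y * g x) → a x = 1 := fun x h => MulEquiv.ext fun q => Subtype.ext (by
    rw [ha, h _ (hs1 q), mul_inv_cancel_right, hs2]; rfl)
  let ψ' : Matrix (Fin d) (Fin d) k →ₗ[k] N → k :=
    { toFun := fun s ω => (ψ s).coeff ω
      map_add' := fun s t => funext fun ω => by simp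
      map_smul' := fun t s => funext fun ω => by simp }
  obtain ⟨μ, hμ⟩ := hC k (P.map c) N Γ (Fin d) u (fun ω => Φ (single ω 1)) ψ' a (T0.comp g) (fun x => F (σ' x)) (F i0)
    { exp := fun q => Subtype.ext (by rw [coe_pow, ← hs2]; exact hexp _ (hs1 q))
      sec := fun s => (alg_sum Φ (ψ s)).trans (h1 s)
      φeq := fun q ω => by rw [sm, ← Mid.map_single]; exact (KC _ _).symm
      ψeq := fun q s ω => by
        change (ψ _).coeff _ = (ψ s).coeff ω
        rw [hu q⁻¹ _ (inv_mem (hs1 q)) (by rw [map_inv, hs2]; rfl), hu q _ (hs1 q) (hs2 q), ← h1 s, KC, mul_assoc,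
          ← map_mul, mul_inv_cancel, map_one, mul_one, h2, ← ce (sec q), ← map_mul, ← h2, h1, sm,
          Mid.coeff_map (f := (c (sec q) : N →* N)) (c (sec q)).injective]
      deg := by rwa [Fintype.card_fin]
      Tu := fun x q => by
        rw [hu _ _ ((mem_normalizer_iff.1 (hg ⟨x, rfl⟩) _).1 (hs1 q)) (ha x q).symm, hu q _ (hs1 q) (hs2 q),
          MonoidHom.comp_apply, ← map_mul, ← map_mul, inv_mul_cancel_right]
      smul := fun x y => by rw [hσ'.mul, map_mul]
      su := fun x => uF _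
      Ts := fun x y => by rw [MonoidHom.comp_apply, KG, hσ'.map]
      ii := by rw [← map_mul, ii]
      iu := uF _
      si := by rw [← map_mul, hσ'.one, ei]
      Ti := fun x => by
        rw [MonoidHom.comp_apply, mul_assoc, KG, ← mul_assoc, ← mul_assoc, ← map_mul, ← map_mul, hσ'.conj, mapA_mapA]
        congr 3
        refine Eq.trans ?_ (DFunLike.congr_fun (mapDomainAlgHom_id (R := k)) i0)
        congr 2; ext a; simp
      prim := fun ω h => by
        obtain ⟨a, rfl⟩ := fx ω h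
        refine (hprim (single a 1)).imp fun t ht => ?_
        rw [← Mid.map_single, ← map_smul, ← ht, map_mul, map_mul]; rfl
      full := ⟨m, fun t => F (A0 t), fun t => F (B0 t), fun _ => uF _, fun _ => uF _, by
        rw [hσ'.one, hfull, map_sum]; simp only [map_mul]⟩
      br := ⟨(e - mapA k j e').coeff, fun q ω => by
        rw [sm, ← Mid.coeff_map (f := (c (sec q) : N →* N)) (c (sec q)).injective _ ω, map_sub, ce, cJ _ (hs1 q)], fun ω h => by
        obtain ⟨a, rfl⟩ := fx ω h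
        rw [coeff_sub, Finsupp.sub_apply, Mid.coeff_map hj, hee, sub_self], by
        rw [alg_sum, map_sub, Φe, hσ'.one]; rfl⟩ }
  refine ⟨μ, fun b => Units.ext (hμ _ 1 (ha1 _ fun y hy => ?_) ?_), fun z t hz ht => hμ z t (ha1 z (by simp [hz])) ?_⟩
  · rw [hgι, mul_inv_eq_iff_eq_mul.1 (hι.cj y (j b)).symm, (hfix _).1 ⟨b, rfl⟩ y hy]
  · rw [one_smul, MonoidHom.comp_apply, hgι, ← map_inv, hσ'.emb, hσ'.one, show T0 _ = Φ (σ _) from rfl, hσ.emb,
      map_mul Φ, Φe, mul_one, ← Mid.map_single, show Φ (mapA k j _) = F _ from rfl, ← map_mul,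
      Subalgebra.mem_center_iff.1 he'.cen, mul_assoc, single_mul_single, inv_mul_cancel, mul_one, ← one_def, mul_one]
  · rw [MonoidHom.comp_apply, hz, map_one, mul_one, ht, hσ'.one, map_smul]

end CL.DG
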