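import Cfsg.Agent.Blk.FongP2
import Cfsg.Agent.Blk.First2
import Cfsg.Agent.Char.McK2
import Mathlib.RingTheory.Localization.FractionRing
import Mathlib.Algebra.MvPolynomial.Rename

/-! Project DG: Dade's theorem on extensions above the Glauberman correspondence, by means of the
generic element of the radical of `kQ`, and perfect isometries for blocks of `p`-solvable groups.
This file holds the definitions and the statements of the steps. -/

namespace CL.DG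

open Cfsg CL.Char CL.Blk Matrix Subgroup
open scoped MonoidAlgebra commutatorElement

universe u

/-- polynomials in variables indexed by `Q` -/
abbrev RR (k : Type) [Field k] (Q : Type u) := MvPolynomial Q k

/-- rational functions in variables indexed by `Q` -/
abbrev KK (k : Type) [Field k] (Q : Type u) := FractionRing (MvPolynomial Q k)

section defs

variable {k : Type} [Field k] {Q Ω Γ : Type u} [CommGroup Q] [Fintype Q] [Fintype Ω] [MulAction Q Ω]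
  [Group Γ] {n : Type} [Fintype n] [DecidableEq n]

/-- constant matrices -/
noncomputable abbrev mK (Q : Type u) : Matrix n n k →+* Matrix n n (KK k Q) :=
  (algebraMap k (KK k Q)).mapMatrix

/-- the generic element `∑ Y_q (u q - 1)` -/
noncomputable def genX (u : Q →* Matrix n n k) : Matrix n n (KK k Q) :=
  ∑ q, algebraMap (RR k Q) (KK k Q) (MvPolynomial.X q) • (mK Q (u q) - 1)

/-- the generic element on a permutation module -/
noncomputable def permA (k : Type) [Field k] (Q Ω : Type u) [CommGroup Q] [Fintype Q]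
    [MulAction Q Ω] : Module.End (RR k Q) (Ω → RR k Q) :=
  ∑ q : Q, (MvPolynomial.X q : RR k Q) •
    (LinearMap.funLeft (RR k Q) (RR k Q) (fun ω : Ω => q⁻¹ • ω) - 1)

omit [Fintype Ω] in
theorem permA_apply (w : Ω → RR k Q) (ω : Ω) :
    permA k Q Ω w ω = ∑ q : Q, MvPolynomial.X q * (w (q⁻¹ • ω) - w ω) := by
  simp [permA, LinearMap.sum_apply, Finset.sum_apply, LinearMap.funLeft_apply]

/-- fixed points -/
def Fx (Q : Type u) [CommGroup Q] [MulAction Q Ω] (ω : Ω) : Prop := ∀ q : Q, q • ω = ω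

/-- `v` lies in the image of `X ^ (p - 1)` -/
def InI {K : Type*} [Field K] (p : ℕ) (X : Matrix n n K) (v : n → K) : Prop :=
  ∃ w, v = X ^ (p - 1) *ᵥ w

/-- The matrix algebra, with `Q` acting by conjugation through `u`, is a direct summand of the
permutation module on `Ω`. -/
structure TD (p : ℕ) (u : Q →* Matrix n n k) (φ : Ω → Matrix n n k)
    (ψ : Matrix n n k →ₗ[k] (Ω → k)) : Prop where
  exp : ∀ q : Q, q ^ p = 1
  sec : ∀ s, ∑ ω, ψ s ω • φ ω = s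
  φeq : ∀ q ω, φ (q • ω) * u q = u q * φ ω
  ψeq : ∀ q s ω, ψ (u q * s * u q⁻¹) (q • ω) = ψ s ω

/-- matrices commuting with the generic element -/
def N1 (p : ℕ) (u : Q →* Matrix n n k) (φ : Ω → Matrix n n k) : Prop :=
  ∀ s : Matrix n n (KK k Q), genX u * s = s * genX u → ∃ z : Ω → Q → KK k Q,
    (∀ ω q, ¬ Fx Q ω → z ω q = 0) ∧ ∀ v, genX u *ᵥ v = 0 →
      InI p (genX u) (s *ᵥ v - ∑ ω, ∑ q, z ω q • mK Q (φ ω * u q) *ᵥ v)

/-- invariant elements with zero Brauer image -/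
def N2 (p : ℕ) (u : Q →* Matrix n n k) (φ : Ω → Matrix n n k) : Prop :=
  ∀ a : Ω → k, (∀ (q : Q) ω, a (q • ω) = a ω) → (∀ ω, Fx Q ω → a ω = 0) →
    ∀ v, genX u *ᵥ v = 0 → InI p (genX u) (mK Q (∑ ω, a ω • φ ω) *ᵥ v)

/-- Data of the main step in characteristic `p`. -/
structure CD (p : ℕ) (u : Q →* Matrix n n k) (φ : Ω → Matrix n n k)
    (ψ : Matrix n n k →ₗ[k] (Ω → k)) (a : Γ →* MulAut Q) (T : Γ →* Matrix n n k)
    (s : Γ → Matrix n n k) (i : Matrix n n k) : Prop extends TD p u φ ψ where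
  deg : (Fintype.card n : k) ≠ 0
  Tu : ∀ x q, T x * u q = u (a x q) * T x
  smul : ∀ x y, s (x * y) = s x * s y
  su : ∀ x q, s x * u q = u q * s x
  Ts : ∀ x y, T x * s y = s (x * y * x⁻¹) * T x
  ii : i * i = i
  iu : ∀ q, i * u q = u q * i
  si : s 1 * i = i
  Ti : ∀ x, s x⁻¹ * T x * i = i * (s x⁻¹ * T x)
  prim : ∀ ω, Fx Q ω → ∃ c : k, i * φ ω * i = c • i
  full : ∃ (m : ℕ) (A B : Fin m → Matrix n n k), (∀ t q, A t * u q = u q * A t) ∧
    (∀ t q, B t * u q = u q * B t) ∧ s 1 = ∑ t, A t * i * B t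
  br : ∃ b : Ω → k, (∀ (q : Q) ω, b (q • ω) = b ω) ∧ (∀ ω, Fx Q ω → b ω = 0) ∧
    1 - s 1 = ∑ ω, b ω • φ ω

end defs

/-- job H1: cocycles in the field of rational functions -/
def H1S : Prop := ∀ (k : Type) [Field k] (Q Γ : Type u) [Group Γ] [Finite Γ]
  (κ : Γ →* RingAut (KK k Q)),
  (∀ x r, ∃ r', κ x (algebraMap (RR k Q) (KK k Q) r) = algebraMap (RR k Q) (KK k Q) r') →
  ∀ f : Γ → KK k Q, f 1 = 1 → (∀ x y, f (x * y) = f x * κ x (f y)) →
    ∃ t : KK k Q, t ≠ 0 ∧ ∀ x, ∃ c : k, f x * κ x t = algebraMap k (KK k Q) c * t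

/-- job PERM -/
def PermS (p : ℕ) : Prop := ∀ (k : Type) [Field k] [CharP k p] (Q Ω : Type u) [CommGroup Q]
  [Fintype Q] [Fintype Ω] [MulAction Q Ω], (∀ q : Q, q ^ p = 1) →
  ∀ w : Ω → RR k Q, permA k Q Ω w = 0 → ∃ f : RR k Q, f ≠ 0 ∧ ∃ b : Ω → RR k Q,
    ∀ ω, ¬ Fx Q ω → f * w ω = (permA k Q Ω ^ (p - 1)) b ω

/-- job TW -/
def TwS (p : ℕ) : Prop := ∀ (k : Type) [Field k] [CharP k p] (Q Ω : Type u) [CommGroup Q]
  [Fintype Q] [Fintype Ω] [MulAction Q Ω] (n : Type) [Fintype n] [DecidableEq n]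
  (u : Q →* Matrix n n k) (φ : Ω → Matrix n n k) (ψ : Matrix n n k →ₗ[k] (Ω → k)),
  TD p u φ ψ → N1 p u φ ∧ N2 p u φ

/-- job LINE, first part -/
def FreeS (p : ℕ) : Prop := ∀ (K : Type u) [Field K] [CharP K p] (n : Type) [Fintype n]
  [DecidableEq n] (X : Matrix n n K), X ^ p = 0 → (Fintype.card n : K) ≠ 0 →
  ∃ v, X *ᵥ v = 0 ∧ ¬ InI p X v

/-- job LINE, second part -/
def LineS (p : ℕ) : Prop := ∀ (K : Type u) [Field K] (n : Type) [Fintype n] [DecidableEq n]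
  (X i : Matrix n n K), i * X = X * i →
  (∀ s, X * s = s * X → ∃ (c : K) (ν : Matrix n n K), IsNilpotent ν ∧ ν * X = X * ν ∧
    ν * i = i * ν ∧ ∀ v, X *ᵥ v = 0 → i *ᵥ v = v → InI p X (i *ᵥ s *ᵥ v - (c • v + ν *ᵥ v))) →
  (∃ v, X *ᵥ v = 0 ∧ i *ᵥ v = v ∧ ¬ InI p X v) →
  ∃ l, X *ᵥ l = 0 ∧ i *ᵥ l = l ∧ ¬ InI p X l ∧
    ∀ v, X *ᵥ v = 0 → i *ᵥ v = v → ∃ c : K, InI p X (v - c • l)

/-- job CORE -/
def CoreS (p : ℕ) : Prop := ∀ (k : Type) [Field k] [CharP k p] (Q Ω Γ : Type u) [CommGroup Q]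
  [Fintype Q] [Fintype Ω] [MulAction Q Ω] [Group Γ] [Finite Γ] (n : Type) [Fintype n]
  [DecidableEq n] (u : Q →* Matrix n n k) (φ : Ω → Matrix n n k)
  (ψ : Matrix n n k →ₗ[k] (Ω → k)) (a : Γ →* MulAut Q) (T : Γ →* Matrix n n k)
  (s : Γ → Matrix n n k) (i : Matrix n n k), CD p u φ ψ a T s i →
  ∃ μ : Γ →* kˣ, ∀ x (c : k), a x = 1 → s x⁻¹ * T x = c • s 1 → (μ x : k) = c

/-- `e` is a block idempotent of `k[N]` -/
structure PrimC {k : Type} [Field k] {N : Type u} [Group N] (e : k[N]) : Prop where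
  cen : e ∈ Subalgebra.center k k[N]
  idem : IsIdempotentElem e
  ne : e ≠ 0
  prim : ∀ f ∈ Subalgebra.center k k[N], IsIdempotentElem f → e * f = 0 ∨ e * f = e

/-- job WED, first part -/
def WedS : Prop := ∀ (k : Type) [Field k] [IsAlgClosed k] (N : Type u) [Group N] [Finite N],
  (Nat.card N : k) ≠ 0 → ∀ e : k[N], PrimC e →
  ∃ (d : ℕ) (Φ : k[N] →ₐ[k] Matrix (Fin d) (Fin d) k) (ψ : Matrix (Fin d) (Fin d) k →ₗ[k] k[N]),
    (d : k) ≠ 0 ∧ (∀ s, Φ (ψ s) = s) ∧ ∀ a, ψ (Φ a) = a * e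

/-- job WED, second part -/
def PrimS : Prop := ∀ (k : Type) [Field k] [IsAlgClosed k] (N : Type u) [Group N] [Finite N],
  (Nat.card N : k) ≠ 0 → ∀ e : k[N], PrimC e →
  ∃ i : k[N], i * i = i ∧ e * i = i ∧ (∀ a, ∃ c : k, i * a * i = c • i) ∧
    ∃ (m : ℕ) (A B : Fin m → k[N]), e = ∑ t, A t * i * B t

/-- the automorphism of `k[N]` induced by an automorphism of `N` -/
noncomputable abbrev mapA (k : Type) [Field k] {N N' : Type u} [Group N] [Group N'] (f : N →* N') :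
    k[N] →ₐ[k] k[N'] := MonoidAlgebra.mapDomainAlgHom k k f

/-- `σ` realises the group `Γ` inside the block algebra `k[N] e` -/
structure Sg {k : Type} [Field k] {N Γ : Type u} [Group N] [Group Γ] (ι : N →* Γ)
    (c : Γ →* MulAut N) (e : k[N]) (σ : Γ → k[N]) : Prop where
  mul : ∀ x y, σ (x * y) = σ x * σ y
  one : σ 1 = e
  emb : ∀ m, σ (ι m) = MonoidAlgebra.single m 1 * e
  conj : ∀ x b, σ x * b = mapA k (c x : N →* N) b * σ x
  map : ∀ x y, mapA k (c x : N →* N) (σ y) = σ (x * y * x⁻¹)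

/-- job SIG -/
def SigS (p : ℕ) : Prop := ∀ (M : Ideal AlgInt), IsPModular p M → ∀ (N Γ : Type u) [Group N]
  [Finite N] [Group Γ] [Finite Γ], ¬ p ∣ Nat.card N → ∀ (ι : N →* Γ) (c : Γ →* MulAut N),
  NEmb ι c → ∀ χ : Γ → ℂ, IsCharacter Γ χ → ∀ θ : IrrCharacter N, (∀ m, χ (ι m) = (θ : N → ℂ) m) →
  PrimC (eBlk M {θ}) ∧ ∃ σ : Γ → (resField M)[N], Sg ι c (eBlk M {θ}) σ ∧
    ∀ (z : Γ) (ν : ℂ), ν ∈ valRing M → (∀ x, χ (z * x) = ν * χ x) → σ z = red M ν • eBlk M {θ}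

/-- job SIG, second part: the Glauberman relation on block idempotents -/
def GrS (p : ℕ) : Prop := ∀ (M : Ideal AlgInt), IsPModular p M → ∀ (A N C : Type u) [Group A]
  [Finite A] [Group N] [Finite N] [Group C] [Finite C], IsPGroup p A → ¬ p ∣ Nat.card N →
  ∀ (φ : A →* MulAut N) (j : C →* N), Function.Injective j → (∀ g, g ∈ j.range ↔ ∀ a, φ a g = g) →
  ∀ (θ : IrrCharacter N) (β : IrrCharacter C), GlRel p j θ β →
    ∀ c, (eBlk M {θ}).coeff (j c) = (eBlk M {β}).coeff c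

/-- job MID: the step in characteristic `p` -/
def MidS (p : ℕ) : Prop := ∀ (k : Type) [Field k] [IsAlgClosed k] [CharP k p] (N G C Γ : Type u)
  [Group N] [Finite N] [Group G] [Finite G] [Group C] [Finite C] [Group Γ] [Finite Γ],
  (Nat.card N : k) ≠ 0 → (Nat.card C : k) ≠ 0 → ∀ (ι : N →* G) (c : G →* MulAut N), NEmb ι c →
  ∀ P : Subgroup G, IsPGroup p P → (∀ x ∈ P, c x ^ p = 1) →
  (∀ x ∈ P, ∀ y ∈ P, c x * c y = c y * c x) → ∀ (e : k[N]) (σ : G → k[N]), PrimC e → Sg ι c e σ →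
  ∀ j : C →* N, Function.Injective j → (∀ m, m ∈ j.range ↔ ∀ x ∈ P, c x m = m) →
  ∀ (ι' : C →* Γ) (c' : Γ →* MulAut C) (g : Γ →* G), g.range ≤ normalizer (P : Set G) →
  (∀ x a, j (c' x a) = c (g x) (j a)) → (∀ a, g (ι' a) = ι (j a)) →
  ∀ (e' : k[C]) (σ' : Γ → k[C]), PrimC e' → Sg ι' c' e' σ' → (∀ a, e.coeff (j a) = e'.coeff a) →
  ∃ μ : Γ →* kˣ, (∀ a, μ (ι' a) = 1) ∧
    ∀ (z : Γ) (t : k), g z = 1 → σ' z⁻¹ = t • e' → (μ z : k) = t

/-- The conclusion of Dade's theorem for `G`, `N`, `P`. -/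
def DGat (p : ℕ) {G : Type u} [Group G] (N P : Subgroup G) : Prop :=
  ∀ (H : Type u) [Group H] (h : H →* G), Function.Injective h →
    h.range ≤ normalizer (P : Set G) → N ⊓ centralizer (P : Set G) ≤ h.range →
    ∀ χ : G → ℂ, IsCharacter G χ → IsIrrCharacter N (fun m => χ m) →
    ∃ η : H → ℂ, IsCharacter H η ∧ IsIrrCharacter (N.comap h) (fun c => η c) ∧
      GlRel p (h.subgroupComap N) (fun m => χ m) (fun c => η c)

/-- job STEP: `P` acts on `N` as an elementary abelian group -/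
def StepS (p : ℕ) : Prop := ∀ (G : Type u) [Group G] [Finite G] (N P : Subgroup G) [N.Normal],
  ¬ p ∣ Nat.card N → IsPGroup p P → (∀ x ∈ P, x ^ p ∈ centralizer (N : Set G)) →
  (∀ x ∈ P, ∀ y ∈ P, ⁅x, y⁆ ∈ centralizer (N : Set G)) → DGat p N P

/-- job IND: Dade's theorem -/
def DGS (p : ℕ) : Prop := ∀ (G : Type u) [Group G] [Finite G] (N P : Subgroup G) [N.Normal],
  ¬ p ∣ Nat.card N → IsPGroup p P → DGat p N P

/-- existence of a perfect isometry -/
def PI {G : Type*} [Group G] {H : Type*} [Group H] (p : ℕ) (M : Ideal AlgInt)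
    (c : Set (IrrCharacter H)) (B : Set (IrrCharacter G)) : Prop :=
  ∃ I ε, IsPerfectIsometry p M c B I ε

/-- irreducible characters on which `ζ z` acts as the scalar `(ν z)⁻¹` -/
def ovr {W Z : Type*} [Group W] [Group Z] (ζ : Z →* W) (ν : Z →* ℂˣ) : Set (IrrCharacter W) :=
  {β | ∀ z w, (β : W → ℂ) (ζ z * w) = ((ν z)⁻¹ : ℂˣ) * (β : W → ℂ) w}

/-- job KER -/
def KerS (p : ℕ) : Prop := ∀ (M : Ideal AlgInt), IsPModular p M → ∀ (W Z : Type u) [Group W]
  [Finite W] [Group Z] [Finite Z] (ζ : Z →* W) (ν : Z →* ℂˣ), ¬ p ∣ Nat.card Z →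
  ζ.range ≤ center W → IsPerfectFun p M (signedBijectionKernel (ovr ζ ν) id fun _ => 1)

/-- job KER, second part -/
def CentS (p : ℕ) : Prop := ∀ (M : Ideal AlgInt), IsPModular p M → ∀ (Γ G W : Type u) [Group Γ]
  [Finite Γ] [Group G] [Group W] [Finite W] (π : Γ →* G) (ρ : Γ →* W), Function.Surjective π →
  π.ker ≤ center Γ → ¬ p ∣ Nat.card π.ker → ¬ p ∣ Nat.card ρ.ker → ∀ x : Γ,
    (Nat.card (centralizer ({ρ x} : Set W)) : ℂ) / Nat.card (centralizer ({π x} : Set G)) ∈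
      valRing M ∧ (IsPRegular p (π x) ↔ IsPRegular p (ρ x))

/-- `θ` extends to the central extension `Γ` of `G` as `χ`, and `W = Γ / ι N` -/
structure Tri {G Γ W Z : Type u} [Group G] [Group Γ] [Group W] [Group Z] (N : Subgroup G)
    (θ : N → ℂ) (π : Γ →* G) (ι : N →* Γ) (χ : Γ → ℂ) (ρ : Γ →* W) (ζ : Z →* Γ) (ν : Z →* ℂˣ) :
    Prop where
  surj : Function.Surjective π
  sec : ∀ m, π (ι m) = m
  ker : π.ker = ζ.range
  cen : ζ.range ≤ center Γ
  char : IsCharacter Γ χ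
  ext : ∀ m, χ (ι m) = θ m
  scal : ∀ z x, χ (ζ z * x) = ν z * χ x
  surjρ : Function.Surjective ρ
  kerρ : ρ.ker = ι.range

/-- job TRI, first part: Gallagher's correspondence for a triple -/
def TriS : Prop := ∀ (G Γ W Z : Type u) [Group G] [Finite G] [Group Γ] [Finite Γ] [Group W]
  [Group Z] (N : Subgroup G) [N.Normal] (θ : IrrCharacter N) (π : Γ →* G) (ι : N →* Γ)
  (χ : Γ → ℂ) (ρ : Γ →* W) (ζ : Z →* Γ) (ν : Z →* ℂˣ), Tri N θ π ι χ ρ ζ ν →
  ∃ F : IrrCharacter W → IrrCharacter G, Set.BijOn F (ovr (ρ.comp ζ) ν) (overSet N {θ}) ∧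
    ∀ β ∈ ovr (ρ.comp ζ) ν, ∀ x, (F β : G → ℂ) (π x) = (β : W → ℂ) (ρ x) * χ x

/-- a perfect isometry with signs `+1` that keeps the degree ratios -/
def PIo {G H : Type u} [Group G] [Finite G] [Group H] [Finite H] (p : ℕ) (M : Ideal AlgInt)
    {N : Subgroup G} {L : Subgroup H} (θ : IrrCharacter N) (φ : IrrCharacter L) : Prop :=
  ∃ I, IsPerfectIsometry p M (overSet L {φ}) (overSet N {θ}) I (fun _ => 1) ∧
    ∀ ξ ∈ overSet L {φ}, (I ξ : G → ℂ) 1 * (φ : L → ℂ) 1 = (ξ : H → ℂ) 1 * (θ : N → ℂ) 1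

/-- job TRI, second part: two triples with the same top -/
def PairS (p : ℕ) : Prop := ∀ (M : Ideal AlgInt), IsPModular p M → ∀ (G Γ H Γ' W Z : Type u)
  [Group G] [Finite G] [Group Γ] [Finite Γ] [Group H] [Finite H] [Group Γ'] [Finite Γ'] [Group W]
  [Group Z] [Finite Z] (N : Subgroup G) [N.Normal] (θ : IrrCharacter N) (π : Γ →* G) (ι : N →* Γ)
  (χ : Γ → ℂ) (ρ : Γ →* W) (ζ : Z →* Γ) (ν : Z →* ℂˣ) (L : Subgroup H) [L.Normal]
  (φ : IrrCharacter L) (π' : Γ' →* H) (ι' : L →* Γ') (χ' : Γ' → ℂ) (ρ' : Γ' →* W) (ζ' : Z →* Γ'),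
  Tri N θ π ι χ ρ ζ ν → Tri L φ π' ι' χ' ρ' ζ' ν → ρ.comp ζ = ρ'.comp ζ' → ¬ p ∣ Nat.card N →
  ¬ p ∣ Nat.card L → ¬ p ∣ Nat.card Z → PIo p M θ φ

/-- the inclusion of `N ∩ H` in `N` -/
def jH {G : Type u} [Group G] (N H : Subgroup G) : N.subgroupOf H →* N := H.subtype.subgroupComap N

@[simp] theorem coe_jH {G : Type u} [Group G] (N H : Subgroup G) (x : N.subgroupOf H) :
    (jH N H x : G) = (x : H) := rfl

/-- job TOP: the character triples above Glauberman correspondents -/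
def TopS (p : ℕ) : Prop := ∀ (M : Ideal AlgInt), IsPModular p M → ∀ (G : Type u) [Group G]
  [Finite G] (N P : Subgroup G) [N.Normal], ¬ p ∣ Nat.card N → IsPGroup p P →
  N ⊔ normalizer (P : Set G) = ⊤ → ∀ θ : IrrCharacter N, IsInvSet {θ} →
  ∃ φ : IrrCharacter (N.subgroupOf (normalizer (P : Set G))), IsInvSet {φ} ∧
    GlRel p (jH N (normalizer (P : Set G))) θ φ ∧ PIo p M θ φ

/-- job PIB: perfect isometries: invariants, transport and induction -/
def PibS (p : ℕ) : Prop := ∀ (M : Ideal AlgInt), IsPModular p M → ∀ (G H : Type u) [Group G]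
  [Fintype G] [Group H] [Finite H] (c : Set (IrrCharacter H)),
  (∀ B : Set (IrrCharacter G), PI p M c B →
    PI p M B c ∧ Nat.card c = Nat.card B ∧ blockRank p c = blockRank p B) ∧
  (∀ (B : Set (IrrCharacter G)) (G' : Type u) [Group G'] (e : G' ≃* G), PI p M c B →
    PI p M c (irrEquiv e '' B)) ∧
  ∀ (T : Subgroup G) (B : Set (IrrCharacter T)), IsTISet T B → PI p M c B →
    PI p M c (indIrr T '' B)

/-- job COV: blocks above Glauberman correspondents -/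
def CovS (p : ℕ) : Prop := ∀ (M : Ideal AlgInt), IsPModular p M → ∀ (G : Type u) [Group G]
  [Finite G] (N P : Subgroup G) [N.Normal], ¬ p ∣ Nat.card N → IsPGroup p P →
  ∀ (θ : IrrCharacter N) (φ : IrrCharacter (N.subgroupOf (normalizer (P : Set G)))), IsInvSet {θ} →
  GlRel p (jH N (normalizer (P : Set G))) θ φ →
  ∀ (B : Set (IrrCharacter G)) (c : Set (IrrCharacter (normalizer (P : Set G)))),
  IsInducedBlock M (normalizer (P : Set G)) c B → B ⊆ overSet N {θ} → c ⊆ overSet _ {φ}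

/-- The theorem for the group `G`. -/
def MainAt (p : ℕ) (M : Ideal AlgInt) (G : Type u) [Group G] : Prop :=
  ∀ (B : Set (IrrCharacter G)) (P : Subgroup G), IsDefectGroup p M B P →
    (∀ x ∈ P, ∀ y ∈ P, x * y = y * x) → ∀ c : Set (IrrCharacter (normalizer (P : Set G))),
    IsInducedBlock M (normalizer (P : Set G)) c B → PI p M c B

/-- job FONG: the block covers an invariant character of `O_{p'}(G)` -/
def FongS (p : ℕ) : Prop := ∀ (M : Ideal AlgInt), IsPModular p M → ∀ (G : Type u) [Group G]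
  [Finite G], IsPSolvable p G → ∀ θ : IrrCharacter (pPrimeCore p G), IsInvSet {θ} →
  ∀ P : Subgroup G, IsDefectGroup p M (overSet _ {θ}) P → (∀ x ∈ P, ∀ y ∈ P, x * y = y * x) →
  ∀ c : Set (IrrCharacter (normalizer (P : Set G))),
    IsInducedBlock M (normalizer (P : Set G)) c (overSet _ {θ}) → PI p M c (overSet _ {θ})

/-- job FR: the Fong-Reynolds step -/
def FrS (p : ℕ) : Prop := ∀ (M : Ideal AlgInt), IsPModular p M → ∀ (G : Type u) [Group G]
  [Fintype G] (N : Subgroup G) [N.Normal], ¬ p ∣ Nat.card N → ∀ (θ : IrrCharacter N)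
  (T : Subgroup G) (hNT : N ≤ T), T = blockStab {θ} → ∀ B' : Set (IrrCharacter T),
  IsPBlock M B' → Covers (N.subgroupOf T) B' (subIrr hNT '' {θ}) → ∀ D : Subgroup T,
  IsDefectGroup p M B' D → ∀ c' : Set (IrrCharacter (normalizer (D : Set T))),
  IsInducedBlock M (normalizer (D : Set T)) c' B' → PI p M c' B' →
  ∀ c : Set (IrrCharacter (normalizer ((D.map T.subtype : Subgroup G) : Set G))),
  IsInducedBlock M _ c (indIrr T '' B') → PI p M c (indIrr T '' B')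

end CL.DG
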