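/-
Project DG, step PERM: the generic element of the radical acts freely on the non-trivial orbits of a permutation module.
-/
import Cfsg.Agent.DG.Defs

set_option autoImplicit false

namespace CL.DG

open Matrix Finset

universe u

variable {p : ℕ} [Fact p.Prime]

namespace PermJ

section Ring

variable {T : Type*} [Ring T]

/-- the norm `∑ a ^ i s a ^ (p - 1 - i)` -/
def th (p : ℕ) (a s : T) : T := ∑ i ∈ range p, a ^ i * s * a ^ (p - 1 - i)

omit [Fact p.Prime] in
theorem th_eq (k : Type*) [CommRing k] [Algebra k T] (a s : T) :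
    th p a s = (∑ i ∈ range p, LinearMap.mulLeft k a ^ i * LinearMap.mulRight k a ^ (p - 1 - i)) s := by
  simp [th, LinearMap.sum_apply, mul_assoc]

omit [Fact p.Prime] in
theorem th_comm {a : T} (h : a ^ p = 0) (s : T) : a * th p a s = th p a s * a := by
  have := LinearMap.congr_fun ((LinearMap.commute_mulLeft_right (R := ℤ) a a).mul_geom_sum₂ p) s
  rw [Module.End.mul_apply, ← th_eq] at this
  simpa [h, sub_eq_zero] using this

theorem geo (k : Type) [Field k] [CharP k p] [Algebra k T] {a b : T} (h : Commute a b) :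
    ∑ i ∈ range p, a ^ i * b ^ (p - 1 - i) = (a - b) ^ (p - 1) := by
  let φ : Polynomial (Polynomial k) →+* T := Polynomial.eval₂RingHom' (Polynomial.aeval a : Polynomial k →ₐ[k] T) b
    fun f => by
      induction f using Polynomial.induction_on' with
      | add f g hf hg => rw [map_add]; exact hf.add_left hg
      | monomial n c =>
        rw [RingHom.coe_coe, Polynomial.aeval_monomial]
        exact Commute.mul_left (Algebra.commutes c b) (h.pow_left n)
  have h1 : φ (Polynomial.C Polynomial.X) = a := (Polynomial.eval₂_C _ _).trans (Polynomial.aeval_X a)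
  have h2 : φ Polynomial.X = b := Polynomial.eval₂_X _ _
  have h3 : (Polynomial.C Polynomial.X - Polynomial.X : Polynomial (Polynomial k)) ≠ 0 :=
    sub_ne_zero.2 (Polynomial.X_ne_C _).symm
  have h4 := congrArg φ (mul_right_cancel₀ h3 ((geom_sum₂_mul _ _ p).trans (by
    rw [← sub_pow_char, ← pow_succ, Nat.sub_add_cancel (Fact.out : p.Prime).one_le]) :
      _ = (Polynomial.C Polynomial.X - Polynomial.X) ^ (p - 1) * _))
  simpa only [map_sum, map_mul, map_pow, map_sub, h1, h2] using h4

theorem th_shift (k : Type) [Field k] [CharP k p] [Algebra k T] (a s : T) : th p (a - 1) s = th p a s := by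
  rw [th_eq k, th_eq k, geo k (LinearMap.commute_mulLeft_right _ _), geo k (LinearMap.commute_mulLeft_right _ _)]
  congr 2
  ext x
  simp [sub_mul, mul_sub]

theorem sum_pow_zero [CharP T p] {ι : Type*} (s : Finset ι) (f : ι → T) (hc : ∀ i j, Commute (f i) (f j))
    (h : ∀ i, f i ^ p = 0) : (∑ i ∈ s, f i) ^ p = 0 := by
  classical
  induction s using Finset.induction_on with
  | empty => exact zero_pow (Fact.out : p.Prime).ne_zero
  | insert i s hi ih =>
    rw [sum_insert hi, add_pow_char_of_commute _ (Commute.sum_right _ _ _ fun j _ => hc i j), h, ih, add_zero]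

end Ring

variable {k : Type} [Field k] {Q Ω : Type u} [CommGroup Q] [Fintype Q] [Fintype Ω] [MulAction Q Ω] [DecidableEq Ω]

/-- the permutation matrices -/
def pm (S : Type*) [CommRing S] (Ω : Type u) [Fintype Ω] [MulAction Q Ω] [DecidableEq Ω] : Q →* Matrix Ω Ω S where
  toFun q := of fun a b => if q⁻¹ • a = b then 1 else 0
  map_one' := by ext a b; simp [one_apply]
  map_mul' q r := by
    ext a b
    simp only [mul_apply, of_apply, ite_mul, one_mul, zero_mul, sum_ite_eq, mem_univ, if_true, _root_.mul_inv_rev, mul_smul]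

omit [Fintype Q] in
theorem pm_apply (S : Type*) [CommRing S] (q : Q) (a b : Ω) : pm S Ω q a b = if q⁻¹ • a = b then 1 else 0 := rfl

omit [Fintype Q] in
theorem pm_conj (S : Type*) [CommRing S] (q : Q) (d : Ω → S) :
    pm S Ω q * (diagonal d * pm S Ω q⁻¹) = diagonal fun a => d (q⁻¹ • a) := by
  ext a b
  rw [mul_apply, sum_eq_single (q⁻¹ • a) (fun j _ n => by rw [pm_apply, if_neg n.symm, zero_mul]) (by simp)]
  simp [pm_apply, diagonal_apply]

/-- the generic element as a matrix -/
noncomputable def am (k : Type) [Field k] (Q Ω : Type u) [CommGroup Q] [Fintype Q] [Fintype Ω] [MulAction Q Ω]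
    [DecidableEq Ω] : Matrix Ω Ω (RR k Q) := ∑ q : Q, (MvPolynomial.X q : RR k Q) • (pm (RR k Q) Ω q - 1)

theorem am_mulVec (w : Ω → RR k Q) : am k Q Ω *ᵥ w = permA k Q Ω w := by
  funext a
  rw [permA_apply, am, sum_mulVec, Finset.sum_apply]
  refine sum_congr rfl fun q _ => ?_
  rw [smul_mulVec, sub_mulVec, one_mulVec]
  simp [mulVec, dotProduct, pm_apply]

theorem am_pow_mulVec (n : ℕ) (w : Ω → RR k Q) : am k Q Ω ^ n *ᵥ w = (permA k Q Ω ^ n) w := by
  induction n with
  | zero => simp
  | succ n ih => rw [pow_succ', pow_succ', ← mulVec_mulVec, ih, am_mulVec, Module.End.mul_apply]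

omit [Fintype Q] in
theorem exists_h {q : Q} (hq : q ^ p = 1) (h : ∀ a : Ω, q • a ≠ a) :
    ∃ η : Ω → Prop, ∀ a, ∃! i, i ∈ range p ∧ η (q ^ i • a) := by
  let r : Ω → Ω := fun a => (Quotient.mk (MulAction.orbitRel (Subgroup.zpowers q) Ω) a).out
  refine ⟨fun a => a = r a, fun a => ?_⟩
  have h1 : ∀ i : ℕ, r (q ^ i • a) = r a := fun i =>
    congrArg Quotient.out (Quotient.sound ⟨⟨q ^ i, pow_mem (Subgroup.mem_zpowers q) i⟩, rfl⟩)
  obtain ⟨⟨g, hg⟩, e⟩ : r a ∈ MulAction.orbit (Subgroup.zpowers q) a :=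
    Quotient.mk_out (s := MulAction.orbitRel (Subgroup.zpowers q) Ω) a
  obtain ⟨n, rfl⟩ := (isOfFinOrder_iff_pow_eq_one.2 ⟨p, (Fact.out : p.Prime).pos, hq⟩).mem_powers_iff_mem_zpowers.2 hg
  have h2 := Nat.mod_lt n (Fact.out : p.Prime).pos
  have h3 : q ^ (n % p) • a = r a := by rw [← pow_eq_pow_mod n hq]; exact e
  have h4 : Function.minimalPeriod (q • ·) a = p := Function.minimalPeriod_eq_prime
    (by rw [Function.IsPeriodicPt, Function.IsFixedPt, smul_iterate_apply, hq, one_smul]) (h a)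
  refine ⟨n % p, ⟨mem_range.2 h2, h3.trans (h1 _).symm⟩, fun i hi => ?_⟩
  refine (Function.iterate_eq_iterate_iff_of_lt_minimalPeriod (h4 ▸ mem_range.1 hi.1) (h4 ▸ h2)).1 ?_
  rw [smul_iterate_apply, smul_iterate_apply, h3, hi.2, h1]

omit [DecidableEq Ω] in
/-- the case of an element without fixed points -/
theorem core [CharP k p] [Nonempty Ω] (hp : ∀ q : Q, q ^ p = 1) {q : Q} (h : ∀ a : Ω, q⁻¹ • a ≠ a) {w : Ω → RR k Q}
    (hw : permA k Q Ω w = 0) : ∃ f : RR k Q, f ≠ 0 ∧ ∃ b, f • w = (permA k Q Ω ^ (p - 1)) b := by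
  classical
  have p1 := (Fact.out : p.Prime).one_le
  obtain ⟨η, hη⟩ := exists_h (hp q⁻¹) h
  have hA : am k Q Ω ^ p = 0 := sum_pow_zero _ _ (fun i j => ((((Commute.all i j).map (pm _ Ω)).sub_left
    (Commute.one_left _)).sub_right (Commute.one_right _)).smul_left _ |>.smul_right _) fun i => by
      rw [smul_pow, sub_pow_char_of_commute _ (Commute.one_right _), ← map_pow, hp, map_one, one_pow, sub_self,
        smul_zero]
  obtain ⟨s, hs⟩ : ∃ s, s = diagonal (fun a => if η a then (1 : RR k Q) else 0) * pm (RR k Q) Ω q := ⟨_, rfl⟩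
  let ev : RR k Q →+* k := MvPolynomial.eval fun r => if r = q then 1 else 0
  have e1 : ∀ r : Q, ev.mapMatrix (pm (RR k Q) Ω r) = pm k Ω r := fun r => by
    ext a b; simp [pm_apply, apply_ite ev]
  have e2 : ev.mapMatrix (am k Q Ω) = pm k Ω q - 1 := by
    rw [am, map_sum, sum_eq_single q (fun r _ n => ?_) (by simp)]
    · rw [← e1, ← map_one ev.mapMatrix, ← map_sub]
      ext a b; simp [ev]
    · ext a b; simp [ev, n]
  have e3 : ev.mapMatrix (th p (am k Q Ω) s) = 1 := by
    have : ev.mapMatrix (th p (am k Q Ω) s) = th p (pm k Ω q - 1) (ev.mapMatrix s) := by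
      simp only [th, map_sum, map_mul, map_pow, e2]
    rw [this, th_shift k, hs, map_mul, e1, RingHom.mapMatrix_apply, diagonal_map (map_zero ev), th]
    rw [sum_congr rfl (g := fun i => diagonal fun a => if η (q⁻¹ ^ i • a) then (1 : k) else 0) fun i hi => by
      have : q * q ^ (p - 1 - i) = (q ^ i)⁻¹ := eq_inv_of_mul_eq_one_left (by
        rw [← pow_succ', ← pow_add, ← hp q]; congr 1; have := mem_range.1 hi; omega)
      rw [mul_assoc, mul_assoc, ← map_pow, ← map_pow, ← map_mul, this, pm_conj]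
      simp only [inv_pow, apply_ite ev, map_one, map_zero]]
    ext a b
    obtain ⟨i, hi, hu⟩ := hη a
    rw [Matrix.sum_apply, sum_eq_single i (fun j hj n => ?_) fun n => (n hi.1).elim]
    · simp only [diagonal_apply, one_apply, hi.2, if_true]
    · simp only [diagonal_apply, show ¬ η (q⁻¹ ^ j • a) from fun k => n (hu j ⟨hj, k⟩), if_false, ite_self]
  have h0 : (th p (am k Q Ω) s).det ≠ 0 := fun e => by
    have := ev.map_det (th p (am k Q Ω) s)
    rw [e3, e, map_zero, det_one] at this
    exact zero_ne_one this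
  obtain ⟨v, hv⟩ : ∃ v, v = (th p (am k Q Ω) s).adjugate *ᵥ w := ⟨_, rfl⟩
  have h1 : th p (am k Q Ω) s *ᵥ v = (th p (am k Q Ω) s).det • w := by
    rw [hv, mulVec_mulVec, mul_adjugate, smul_mulVec, one_mulVec]
  have h2 : am k Q Ω *ᵥ v = 0 := eq_zero_of_mulVec_eq_zero h0 (by
    rw [mulVec_mulVec, ← th_comm hA, ← mulVec_mulVec, h1, mulVec_smul, am_mulVec, hw, smul_zero])
  refine ⟨_, h0, s *ᵥ v, ?_⟩
  rw [← h1, ← am_pow_mulVec, th, sum_mulVec, sum_eq_single (p - 1) (fun i hi n => ?_) fun n =>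
    (n (mem_range.2 (by omega))).elim, Nat.sub_self, pow_zero, mul_one, mulVec_mulVec]
  obtain ⟨m, hm⟩ : ∃ m, p - 1 - i = m + 1 := ⟨p - 2 - i, by have := mem_range.1 hi; omega⟩
  rw [hm, pow_succ, ← mul_assoc, ← mulVec_mulVec, h2, mulVec_zero]

omit [DecidableEq Ω] [Fintype Ω] in
theorem res (a : Ω) (n : ℕ) (b : Ω → RR k Q) (x : MulAction.orbit Q a) :
    (permA k Q (MulAction.orbit Q a) ^ n) (fun y => b y) x = (permA k Q Ω ^ n) b x := by
  induction n generalizing x with
  | zero => rfl
  | succ n ih =>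
    rw [pow_succ', pow_succ', Module.End.mul_apply, Module.End.mul_apply, permA_apply, permA_apply]
    simp only [ih, MulAction.orbit.coe_smul]

end PermJ

open PermJ

theorem permS : PermS.{u} p := by
  intro k _ _ Q Ω _ _ _ _ hp w hw
  classical
  have key : ∀ a : Ω, ∃ f : RR k Q, f ≠ 0 ∧ ∃ b : MulAction.orbit Q a → RR k Q, ¬ Fx Q a →
      (f • fun y : MulAction.orbit Q a => w y) = (permA k Q (MulAction.orbit Q a) ^ (p - 1)) b := fun a => by
    by_cases h : Fx Q a
    · exact ⟨1, one_ne_zero, 0, fun n => (n h).elim⟩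
    obtain ⟨q, hq⟩ := not_forall.1 h
    have : Nonempty (MulAction.orbit Q a) := ⟨⟨a, MulAction.mem_orbit_self a⟩⟩
    obtain ⟨f, h1, b, h2⟩ := core (Ω := MulAction.orbit Q a) hp (q := q⁻¹) (w := fun y => w y) (by
      rintro ⟨_, g, rfl⟩ e
      have : q⁻¹⁻¹ • g • a = g • a := congrArg Subtype.val e
      rw [inv_inv, smul_comm] at this
      exact hq (MulAction.injective g this)) (funext fun x => by
        have := res a 1 w x
        rwa [pow_one, pow_one, hw] at this)
    exact ⟨f, h1, b, fun _ => h2⟩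
  choose f f0 b hb using key
  let r : Ω → Ω := fun a => (Quotient.mk (MulAction.orbitRel Q Ω) a).out
  have hr : ∀ a, a ∈ MulAction.orbit Q (r a) := fun a =>
    (MulAction.orbitRel Q Ω).symm (Quotient.mk_out (s := MulAction.orbitRel Q Ω) a)
  refine ⟨∏ a, f a, prod_ne_zero_iff.2 fun a _ => f0 a,
    fun y => (∏ a ∈ univ.erase (r y), f a) * Function.extend Subtype.val (b (r y)) 0 y, fun a ha => ?_⟩
  have h1 := congrFun (hb (r a) fun h => ha fun q => by
    obtain ⟨g, hg⟩ := hr a
    rw [← show g • r a = a from hg, h g, h q]) ⟨a, hr a⟩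
  refine Eq.trans ?_ (res (r a) (p - 1) _ ⟨a, hr a⟩)
  rw [show (fun y : MulAction.orbit Q (r a) => (∏ c ∈ univ.erase (r y), f c) *
      Function.extend Subtype.val (b (r y)) 0 (y : Ω)) = (∏ c ∈ univ.erase (r a), f c) • b (r a) from funext fun y => by
    rw [show r y = r a from congrArg Quotient.out ((Quotient.sound y.2).trans (Quotient.out_eq _)),
      Subtype.val_injective.extend_apply]; rfl, map_smul, Pi.smul_apply, ← h1, ← prod_erase_mul _ _ (mem_univ (r a))]
  exact mul_assoc _ _ _

end CL.DG
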