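import Cfsg.Agent.DG.Defs
import Cfsg.Agent.Char.SchurAvg
import Cfsg.Agent.Char.Span

/-! Project DG, job SIG: an extension of an irreducible character realises the overgroup inside the
block algebra; the Glauberman relation on block idempotents. -/

namespace CL.DG

open Cfsg CL.Char CL.Blk Subgroup
open scoped MonoidAlgebra ComplexConjugate

universe u

variable {p : ℕ} [Fact p.Prime]

namespace Sig

theorem sum_trace_smul {N V : Type*} [Group N] [Fintype N] [AddCommGroup V] [Module ℂ V]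
    [FiniteDimensional ℂ V] (ρ : Representation ℂ N V) [ρ.IsIrreducible] (A : Module.End ℂ V) :
    ∑ m : N, LinearMap.trace ℂ V (A * ρ m⁻¹) • ρ m =
      ((Nat.card N : ℂ) / (Module.finrank ℂ V : ℂ)) • A := by
  classical
  let b := Module.finBasis ℂ V
  ext w
  have h1 : ∀ m : N, LinearMap.trace ℂ V (A * ρ m⁻¹) = ∑ i, b.coord i (ρ m⁻¹ (A (b i))) := by
    intro m
    rw [LinearMap.trace_mul_comm, LinearMap.trace_eq_matrix_trace ℂ b, Matrix.trace]
    simp [LinearMap.toMatrix_apply]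
  have h2 : ∀ i, ∑ m : N, b.coord i (ρ m⁻¹ (A (b i))) • ρ m w =
      ((Nat.card N : ℂ) * b.coord i w / (Module.finrank ℂ V : ℂ)) • A (b i) := by
    intro i
    have h := congrArg (fun S : Module.End ℂ V => S (A (b i)))
      (schurAvg_sum_conj ρ ((b.coord i).smulRight w))
    simpa [LinearMap.sum_apply, LinearMap.trace_smulRight] using h
  simp only [LinearMap.sum_apply, LinearMap.smul_apply, h1, Finset.sum_smul]
  rw [Finset.sum_comm]
  simp only [h2]
  conv_rhs => rw [← b.sum_repr w, map_sum, Finset.smul_sum]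
  refine Finset.sum_congr rfl fun i _ => ?_
  rw [map_smul, smul_smul, Module.Basis.coord_apply]
  congr 1
  ring

theorem char_comm {Γ : Type*} [Group Γ] {χ : Γ → ℂ} (hχ : IsCharacter Γ χ) (x y : Γ) :
    χ (x * y) = χ (y * x) := by
  obtain ⟨n, ρ, rfl⟩ := hχ
  exact Representation.char_mul_comm ρ y x

theorem key {N Γ : Type*} [Group N] [Fintype N] [Group Γ] (ι : N →* Γ) {χ : Γ → ℂ}
    (hχ : IsCharacter Γ χ) (θ : IrrCharacter N) (h : ∀ m, χ (ι m) = (θ : N → ℂ) m) (x y : Γ) :
    (θ : N → ℂ) 1 * ∑ m : N, χ (x * (ι m)⁻¹) * χ (y * ι m) = (Nat.card N : ℂ) * χ (y * x) := by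
  obtain ⟨n, ρ, rfl⟩ := hχ
  let ρ' : Representation ℂ N (Fin n → ℂ) := ρ.comp ι
  have hc : ρ'.character = (θ : N → ℂ) := funext h
  have : ρ'.IsIrreducible := isIrreducible_of_isIrrCharacter ρ' (hc ▸ θ.2)
  have h1 := congrArg (fun S => LinearMap.trace ℂ _ (ρ y * S)) (sum_trace_smul ρ' (ρ x))
  have hd : (θ : N → ℂ) 1 = (Module.finrank ℂ (Fin n → ℂ) : ℂ) := by
    rw [← hc, Representation.char_one]
  have hpos : (Module.finrank ℂ (Fin n → ℂ) : ℂ) ≠ 0 := by
    exact_mod_cast (schurAvg_finrank_pos ρ').ne'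
  simp only [Finset.mul_sum, map_sum, mul_smul_comm, map_smul, smul_eq_mul] at h1
  have h2 : ∑ m : N, ρ.character (x * (ι m)⁻¹) * ρ.character (y * ι m) =
      (Nat.card N : ℂ) / (Module.finrank ℂ (Fin n → ℂ) : ℂ) * ρ.character (y * x) := by
    simp only [Representation.character, map_mul]
    rw [← h1]
    refine Finset.sum_congr rfl fun m _ => ?_
    rw [← map_inv]
    rfl
  rw [h2, hd]
  field_simp

/-- the lift of `σ` to characteristic zero -/
noncomputable def sg {N Γ : Type*} [Group N] [Finite N] [Group Γ] (ι : N →* Γ) (χ : Γ → ℂ)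
    (x : Γ) : ℂ[N] :=
  ofFun fun m => (Nat.card N : ℂ)⁻¹ * (χ 1 * χ (x * (ι m)⁻¹))

theorem coeff_sg {N Γ : Type*} [Group N] [Finite N] [Group Γ] (ι : N →* Γ) (χ : Γ → ℂ)
    (x : Γ) (m : N) : (sg ι χ x).coeff m = (Nat.card N : ℂ)⁻¹ * (χ 1 * χ (x * (ι m)⁻¹)) := rfl

theorem sg_mul {N Γ : Type*} [Group N] [Finite N] [Group Γ] (ι : N →* Γ) {χ : Γ → ℂ}
    (hχ : IsCharacter Γ χ) (θ : IrrCharacter N) (h : ∀ m, χ (ι m) = (θ : N → ℂ) m) (x y : Γ) :
    sg ι χ (x * y) = sg ι χ x * sg ι χ y := by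
  let _ := Fintype.ofFinite N
  refine grpAlg_ext fun g => ?_
  have h1 : χ 1 = (θ : N → ℂ) 1 := by rw [← h, map_one]
  have h2 := key ι hχ θ h x (y * (ι g)⁻¹)
  have hN : (Nat.card N : ℂ) ≠ 0 := by exact_mod_cast Nat.card_pos.ne'
  rw [coeff_mul_sum]
  simp only [coeff_sg, map_mul, map_inv, mul_inv_rev, inv_inv, ← mul_assoc y]
  rw [char_comm hχ, ← mul_assoc, ← h1] at h2
  have h3 : χ (x * y * (ι g)⁻¹) =
      (Nat.card N : ℂ)⁻¹ * (χ 1 * ∑ m : N, χ (x * (ι m)⁻¹) * χ (y * (ι g)⁻¹ * ι m)) := by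
    rw [h2]; field_simp
  rw [h3]
  simp only [Finset.mul_sum]
  refine Finset.sum_congr rfl fun m _ => ?_
  ring

theorem sg_one {N Γ : Type*} [Group N] [Finite N] [Group Γ] (ι : N →* Γ) {χ : Γ → ℂ}
    (θ : IrrCharacter N) (h : ∀ m, χ (ι m) = (θ : N → ℂ) m) :
    sg ι χ 1 = blockIdem {θ} := by
  refine grpAlg_ext fun g => ?_
  have h1 : χ 1 = (θ : N → ℂ) 1 := by rw [← h, map_one]
  rw [coeff_sg, coeff_blockIdem, blockCoeff, finsum_mem_singleton, one_mul, ← map_inv, h, h1,
    isChar_inv θ.2.isCharacter]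

omit [Fact p.Prime] in
theorem sg_mem {M : Ideal AlgInt} (hM : IsPModular p M) {N Γ : Type*} [Group N] [Finite N] [Group Γ]
    [Finite Γ] (hN : ¬ p ∣ Nat.card N) (ι : N →* Γ) {χ : Γ → ℂ} (hχ : IsCharacter Γ χ) (x : Γ) :
    sg ι χ x ∈ OG M N :=
  mem_OG.2 fun _ => mul_mem (inv_natCast_mem_valRing hM hN)
    (mul_mem (char_mem_valRing M hχ _) (char_mem_valRing M hχ _))

end Sig

open Sig in
theorem sigS : SigS.{u} p := by
  intro M hM N Γ _ _ _ _ hN ι c hc χ hχ θ h
  have hB := isPBlock_singleton_of_not_dvd_card hM hN θ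
  refine ⟨⟨eBlk_mem_center _, isIdempotentElem_eBlk hM hB, eBlk_ne_zero hM hB,
    fun f hf hi => eBlk_mul_idem_eq_or hM hB hf hi⟩, fun x => redG M (sg ι χ x), ?_, ?_⟩
  · have hco : ∀ x m, (redG M (sg ι χ x)).coeff m =
        red M ((Nat.card N : ℂ)⁻¹ * (χ 1 * χ (x * (ι m)⁻¹))) := fun _ _ => rfl
    have h1 : redG M (sg ι χ 1) = eBlk M {θ} := by rw [sg_one ι θ h]; rfl
    refine ⟨fun x y => ?_, h1, fun m => ?_, fun x b => ?_, fun x y => ?_⟩
    · rw [sg_mul ι hχ θ h, redG_mul (sg_mem hM hN ι hχ x) (sg_mem hM hN ι hχ y)]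
    · rw [← h1]
      refine grpAlg_ext fun g => ?_
      rw [coeff_single_one_mul', hco, hco, char_comm hχ (ι m)]
      simp
    · induction b using MonoidAlgebra.induction_linear with
      | zero => simp
      | add a b ha hb => rw [mul_add, map_add, add_mul, ha, hb]
      | single m r =>
        have h2 : (MonoidAlgebra.single m r : (resField M)[N]) = r • MonoidAlgebra.single m 1 := by
          simp
        have h3 : mapA (resField M) (c x : N →* N) (MonoidAlgebra.single m 1) =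
            MonoidAlgebra.single (c x m) 1 := by simp
        rw [h2, map_smul, mul_smul_comm, smul_mul_assoc, h3]
        congr 1
        refine grpAlg_ext fun g => ?_
        rw [coeff_single_one_mul', coeff_mul_single_one', hco, hco, map_mul, map_mul, map_inv,
          map_inv, hc.cj]
        have h4 : χ (x * ((x * ι m * x⁻¹)⁻¹ * ι g)⁻¹) = χ (x * (ι g * (ι m)⁻¹)⁻¹) := by
          rw [char_comm hχ x, show ((x * ι m * x⁻¹)⁻¹ * ι g)⁻¹ * x = (ι g)⁻¹ * (x * ι m) by group,
            char_comm hχ]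
          congr 1
          group
        rw [h4]
    · refine grpAlg_ext fun g => ?_
      obtain ⟨m, rfl⟩ := (c x).surjective g
      have h3 : (mapA (resField M) (c x : N →* N) (redG M (sg ι χ y))).coeff (c x m) =
          (redG M (sg ι χ y)).coeff m := by
        simp only [MonoidAlgebra.mapDomainAlgHom_apply, MonoidAlgebra.coeff_mapDomain]
        exact Finsupp.mapDomain_apply (c x).injective _ _
      rw [h3, hco, hco, hc.cj]
      have h4 : χ (x * y * x⁻¹ * (x * ι m * x⁻¹)⁻¹) = χ (y * (ι m)⁻¹) := by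
        rw [show x * y * x⁻¹ * (x * ι m * x⁻¹)⁻¹ = x * (y * (ι m)⁻¹ * x⁻¹) by group,
          char_comm hχ]
        congr 1
        group
      rw [h4]
  · intro z ν hν hz
    have h1 : sg ι χ z = ν • sg ι χ 1 := by
      refine grpAlg_ext fun g => ?_
      rw [coeff_smul_mul, coeff_sg, coeff_sg, hz, one_mul]
      ring
    change redG M (sg ι χ z) = _
    rw [h1, redG_smul hν (sg_mem hM hN ι hχ 1), sg_one ι θ h]
    rfl

theorem grS : GrS.{u} p := by
  intro M hM A N C _ _ _ _ _ _ hA hN φ j hj hr θ β hg c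
  obtain ⟨ε, Δ, hε, hΔ, hg⟩ := hg
  have := charP_resField hM
  have hcard : (Nat.card N : resField M) = (Nat.card C : resField M) := by
    let _ : MulAction A N := MulAction.compHom N φ
    have h1 := hA.card_modEq_card_fixedPoints N
    have h2 : Nat.card (MulAction.fixedPoints A N) = Nat.card C := by
      rw [Nat.card_congr (MonoidHom.ofInjective hj).toEquiv]
      refine Nat.card_congr (Equiv.subtypeEquivRight fun g => ?_)
      exact (hr g).symm
    rw [h2] at h1
    exact (CharP.natCast_eq_natCast (resField M) p).2 h1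
  have hC : ¬ p ∣ Nat.card C := by
    rw [← natCast_resField_eq_zero_iff hM, ← hcard, natCast_resField_eq_zero_iff hM]
    exact hN
  have hθ : ∀ a, red M ((θ : N → ℂ) (j a)) = (ε : resField M) * red M ((β : C → ℂ) a) := by
    intro a
    rw [hg, red_add (mul_mem (intCast_mem _ _) (irr_mem_valRing β a))
      (mul_mem (natCast_mem _ _) (genChar_mem_valRing M hΔ a)),
      red_mul (intCast_mem _ _) (irr_mem_valRing β a),
      red_mul (natCast_mem _ _) (genChar_mem_valRing M hΔ a), red_natCast, red_intCast,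
      CharP.cast_eq_zero, zero_mul, add_zero]
  have hε2 : (ε : resField M) * ε = 1 := by rcases hε with rfl | rfl <;> simp
  change red M (blockCoeff {θ} (j c)) = red M (blockCoeff {β} c)
  rw [blockCoeff, blockCoeff, finsum_mem_singleton, finsum_mem_singleton,
    ← isChar_inv θ.2.isCharacter, ← isChar_inv β.2.isCharacter,
    red_mul (inv_natCast_mem_valRing hM hN) (mul_mem (irr_mem_valRing θ _) (irr_mem_valRing θ _)),
    red_mul (inv_natCast_mem_valRing hM hC) (mul_mem (irr_mem_valRing β _) (irr_mem_valRing β _)),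
    red_mul (irr_mem_valRing θ _) (irr_mem_valRing θ _),
    red_mul (irr_mem_valRing β _) (irr_mem_valRing β _),
    red_inv ((val_natCast_eq_one_iff hM _).2 hN), red_inv ((val_natCast_eq_one_iff hM _).2 hC),
    red_natCast, red_natCast, hcard, ← map_inv, ← map_one j, hθ, hθ]
  congr 1
  linear_combination (red M ((β : C → ℂ) 1) * red M ((β : C → ℂ) c⁻¹)) * hε2

end CL.DG
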