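import Cfsg.Agent.DG.Defs

/-! Project DG: the commutator with the generic element is conjugate, by a twist of the monomials,
to the generic element of the conjugation action. -/

namespace CL.DG

open MvPolynomial Matrix

universe u

variable {p : ℕ}

namespace Tw

variable {k : Type} [Field k] {Q Ω : Type u} [CommGroup Q] {n : Type} [Fintype n] [DecidableEq n]

/-- constant matrices over the polynomial ring -/
noncomputable abbrev Cm (Q : Type u) : Matrix n n k →+* Matrix n n (RR k Q) :=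
  (C : k →+* RR k Q).mapMatrix

/-- matrix of coefficients -/
noncomputable def coef (m : Q →₀ ℕ) (s : Matrix n n (RR k Q)) : Matrix n n k := s.map (coeff m)

/-- weight of a monomial -/
def wt (m : Q →₀ ℕ) : Q := m.prod fun q e => q ^ e

theorem wt_add (m m' : Q →₀ ℕ) : wt (m + m') = wt m * wt m' :=
  Finsupp.prod_add_index' (fun _ => pow_zero _) fun _ _ _ => pow_add _ _ _

theorem wt_zero : wt (0 : Q →₀ ℕ) = 1 := rfl

theorem wt_single (q : Q) : wt (Finsupp.single q 1) = q := by
  simp [wt]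

theorem wt_smul (a : ℕ) (m : Q →₀ ℕ) : wt (a • m) = wt m ^ a := by
  induction a with
  | zero => simp [wt_zero]
  | succ a ih => rw [succ_nsmul, wt_add, ih, pow_succ]

omit [CommGroup Q] [Fintype n] [DecidableEq n] in
theorem coef_ext {s t : Matrix n n (RR k Q)} (h : ∀ m, coef m s = coef m t) : s = t := by
  ext i j m
  exact congrFun (congrFun (h m) i) j

omit [CommGroup Q] [Fintype n] [DecidableEq n] in
theorem coef_add (m : Q →₀ ℕ) (s t : Matrix n n (RR k Q)) :
    coef m (s + t) = coef m s + coef m t := by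
  ext i j
  simp [coef]

omit [CommGroup Q] in
theorem coef_Cm_mul (m : Q →₀ ℕ) (a : Matrix n n k) (s : Matrix n n (RR k Q)) :
    coef m (Cm Q a * s) = a * coef m s := by
  ext i j
  simp [coef, Matrix.mul_apply, coeff_sum, coeff_C_mul]

omit [CommGroup Q] in
theorem coef_mul_Cm (m : Q →₀ ℕ) (a : Matrix n n k) (s : Matrix n n (RR k Q)) :
    coef m (s * Cm Q a) = coef m s * a := by
  ext i j
  simp [coef, Matrix.mul_apply, coeff_sum, mul_comm (s i _), coeff_C_mul, mul_comm (coeff m _)]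

omit [CommGroup Q] [Fintype n] [DecidableEq n] in
open Classical in
theorem coef_monomial_smul (m m' : Q →₀ ℕ) (r : k) (s : Matrix n n (RR k Q)) :
    coef m (monomial m' r • s) = if m' ≤ m then r • coef (m - m') s else 0 := by
  ext i j
  simp only [coef, Matrix.map_apply, Matrix.smul_apply, smul_eq_mul, coeff_monomial_mul']
  split_ifs <;> simp

/-- the twist -/
noncomputable def tw0 (u : Q →* Matrix n n k) (s : Matrix n n (RR k Q)) : Matrix n n (RR k Q) :=
  fun i j => ∑ l, ∑ m ∈ (s i l).support, monomial m (coeff m (s i l) * u (wt m) l j)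

theorem coef_tw0 (u : Q →* Matrix n n k) (m : Q →₀ ℕ) (s : Matrix n n (RR k Q)) :
    coef m (tw0 u s) = coef m s * u (wt m) := by
  classical
  ext i j
  simp only [coef, tw0, Matrix.map_apply, Matrix.mul_apply, coeff_sum, coeff_monomial,
    Finset.sum_ite_eq']
  refine Finset.sum_congr rfl fun l _ => ?_
  split_ifs with h
  · rfl
  · rw [notMem_support_iff.1 h, zero_mul]

/-- the twist as an additive map -/
noncomputable def tw (u : Q →* Matrix n n k) : Matrix n n (RR k Q) →+ Matrix n n (RR k Q) :=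
  AddMonoidHom.mk' (tw0 u) fun s t => coef_ext fun m => by
    simp only [coef_tw0, coef_add, add_mul]

variable (u : Q →* Matrix n n k)

theorem coef_tw (m : Q →₀ ℕ) (s : Matrix n n (RR k Q)) :
    coef m (tw u s) = coef m s * u (wt m) := coef_tw0 u m s

theorem tw_tw {u' : Q →* Matrix n n k} (h : ∀ q, u' q * u q = 1) (s : Matrix n n (RR k Q)) :
    tw u (tw u' s) = s := coef_ext fun m => by rw [coef_tw, coef_tw, mul_assoc, h, mul_one]

theorem tw_Cm_mul (a : Matrix n n k) (s : Matrix n n (RR k Q)) :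
    tw u (Cm Q a * s) = Cm Q a * tw u s := coef_ext fun m => by
  simp only [coef_tw, coef_Cm_mul, mul_assoc]

theorem tw_mul_Cm (q : Q) (s : Matrix n n (RR k Q)) :
    tw u (s * Cm Q (u q)) = tw u s * Cm Q (u q) := coef_ext fun m => by
  simp only [coef_tw, coef_mul_Cm, mul_assoc, ← map_mul, mul_comm q]

theorem tw_monomial (m : Q →₀ ℕ) (r : k) (s : Matrix n n (RR k Q)) :
    tw u (monomial m r • s) = monomial m r • (tw u s * Cm Q (u (wt m))) := coef_ext fun m' => by
  simp only [coef_tw, coef_monomial_smul, coef_mul_Cm]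
  split_ifs with h
  · rw [smul_mul_assoc, mul_assoc, ← map_mul, ← wt_add, tsub_add_cancel_of_le h]
  · exact zero_mul _

theorem tw_one : tw u 1 = 1 := coef_ext fun m => by
  classical
  rw [coef_tw]
  by_cases h : m = 0
  · rw [h, wt_zero, map_one, mul_one]
  · have : coef m (1 : Matrix n n (RR k Q)) = 0 := by
      ext i j
      simp only [coef, Matrix.map_apply, Matrix.one_apply]
      split_ifs
      · simp [coeff_one, Ne.symm h]
      · simp
    rw [this, zero_mul]

theorem tw_Cm (a : Matrix n n k) : tw u (Cm Q a) = Cm Q a := by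
  have := tw_Cm_mul u a 1
  rwa [tw_one, mul_one] at this

theorem tw_pow [Fact p.Prime] [CharP k p] (h : ∀ q : Q, q ^ p = 1) (f : RR k Q)
    (s : Matrix n n (RR k Q)) : tw u (f ^ p • s) = f ^ p • tw u s := by
  induction f using MvPolynomial.induction_on' with
  | monomial m r => rw [monomial_pow, tw_monomial, wt_smul, h, map_one, map_one, mul_one]
  | add f g hf hg => rw [add_pow_char, add_smul, add_smul, map_add, hf, hg]

variable [Fintype Q]

theorem exists_tw_smul (r : RR k Q) (a : Matrix n n k) : ∃ z : Q → RR k Q, (r = 0 → z = 0) ∧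
    tw u (r • Cm Q a) = ∑ q, z q • Cm Q (a * u q) := by
  classical
  by_cases h : r = 0
  · exact ⟨0, fun _ => rfl, by simp [h]⟩
  suffices ∃ z : Q → RR k Q, tw u (r • Cm Q a) = ∑ q, z q • Cm Q (a * u q) from
    this.imp fun z hz => ⟨fun e => (h e).elim, hz⟩
  clear h
  induction r using MvPolynomial.induction_on' with
  | monomial m r =>
    refine ⟨Pi.single (wt m) (monomial m r), ?_⟩
    rw [tw_monomial, tw_Cm, ← map_mul, Finset.sum_eq_single (wt m)]
    · rw [Pi.single_eq_same]
    · intro q _ hq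
      rw [Pi.single_eq_of_ne hq, zero_smul]
    · simp
  | add f g hf hg =>
    obtain ⟨z, hz⟩ := hf
    obtain ⟨z', hz'⟩ := hg
    exact ⟨z + z', by simp only [add_smul, map_add, hz, hz', Pi.add_apply, Finset.sum_add_distrib]⟩

/-- the generic element over the polynomial ring -/
noncomputable def XR : Matrix n n (RR k Q) := ∑ q, (X q : RR k Q) • (Cm Q (u q) - 1)

/-- commutator with the generic element -/
noncomputable def yR : Module.End (RR k Q) (Matrix n n (RR k Q)) :=
  LinearMap.mulLeft _ (XR u) - LinearMap.mulRight _ (XR u)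

/-- generic element of the conjugation action -/
noncomputable def aR : Module.End (RR k Q) (Matrix n n (RR k Q)) :=
  ∑ q, (X q : RR k Q) • (LinearMap.mulLeftRight _ (Cm Q (u q), Cm Q (u q⁻¹)) - 1)

theorem yR_apply (s : Matrix n n (RR k Q)) : yR u s = XR u * s - s * XR u := rfl

theorem aR_apply (s : Matrix n n (RR k Q)) :
    aR u s = ∑ q, (X q : RR k Q) • (Cm Q (u q) * s * Cm Q (u q⁻¹) - s) := by
  simp [aR, LinearMap.sum_apply]

theorem tw_aR (s : Matrix n n (RR k Q)) : tw u (aR u s) = yR u (tw u s) := by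
  rw [aR_apply, map_sum, yR_apply, XR, Finset.sum_mul, Finset.mul_sum, ← Finset.sum_sub_distrib]
  refine Finset.sum_congr rfl fun q _ => ?_
  have e : Cm Q (u q⁻¹) * Cm Q (u q) = 1 := by
    rw [← map_mul, ← map_mul, inv_mul_cancel, u.map_one, map_one]
  rw [X, tw_monomial, wt_single, map_sub, tw_mul_Cm, tw_Cm_mul, smul_mul_assoc, mul_smul_comm,
    ← smul_sub, sub_mul (_ * _), mul_assoc (_ * _), e, mul_one, sub_mul, mul_sub, one_mul, mul_one,
    sub_sub_sub_cancel_right]

theorem tw_aR_pow (j : ℕ) (s : Matrix n n (RR k Q)) :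
    tw u ((aR u ^ j) s) = (yR u ^ j) (tw u s) := by
  induction j with
  | zero => rfl
  | succ j ih => rw [pow_succ', pow_succ', Module.End.mul_apply, Module.End.mul_apply, tw_aR, ih]

omit [CommGroup Q] [Fintype Q] in
theorem ext_Cm {V : Type*} [AddCommMonoid V] [Module (RR k Q) V]
    {F G : Matrix n n (RR k Q) →ₗ[RR k Q] V} (h : ∀ a, F (Cm Q a) = G (Cm Q a)) : F = G := by
  refine LinearMap.ext fun s => ?_
  have : s = ∑ i, ∑ j, s i j • Cm Q (Matrix.single i j 1) := by
    conv_lhs => rw [Matrix.matrix_eq_sum_single s]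
    refine Finset.sum_congr rfl fun i _ => Finset.sum_congr rfl fun j _ => ?_
    simp [Matrix.map_single]
  rw [this]
  simp only [map_sum, map_smul, h]

variable [Fintype Ω] [MulAction Q Ω] {u} {φ : Ω → Matrix n n k} {ψ : Matrix n n k →ₗ[k] (Ω → k)}

/-- extension of `φ` -/
noncomputable def phiR (Q : Type u) (φ : Ω → Matrix n n k) :
    (Ω → RR k Q) →ₗ[RR k Q] Matrix n n (RR k Q) :=
  Fintype.linearCombination (RR k Q) fun ω => Cm Q (φ ω)

/-- extension of `ψ` -/
noncomputable def psiR (Q : Type u) (ψ : Matrix n n k →ₗ[k] (Ω → k)) :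
    Matrix n n (RR k Q) →ₗ[RR k Q] (Ω → RR k Q) where
  toFun s ω := ∑ i, ∑ j, s i j * C (ψ (Matrix.single i j 1) ω)
  map_add' s t := by
    funext ω
    simp [add_mul, Finset.sum_add_distrib]
  map_smul' r s := by
    funext ω
    simp [Finset.mul_sum, mul_assoc]

omit [CommGroup Q] [Fintype Q] [MulAction Q Ω] in
theorem phiR_apply (w : Ω → RR k Q) : phiR Q φ w = ∑ ω, w ω • Cm Q (φ ω) :=
  Fintype.linearCombination_apply _ _ _

omit [CommGroup Q] [Fintype Q] [MulAction Q Ω] in
theorem phiR_C (a : Ω → k) : phiR Q φ (fun ω => C (a ω)) = Cm Q (∑ ω, a ω • φ ω) := by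
  rw [phiR_apply, map_sum]
  refine Finset.sum_congr rfl fun ω _ => ?_
  ext i j : 2
  simp

omit [CommGroup Q] [Fintype Q] [MulAction Q Ω] [Fintype Ω] in
theorem psiR_Cm (a : Matrix n n k) (ω : Ω) : psiR Q ψ (Cm Q a) ω = C (ψ a ω) := by
  conv_rhs => rw [Matrix.matrix_eq_sum_single a]
  simp only [map_sum, Finset.sum_apply]
  refine Finset.sum_congr rfl fun i _ => Finset.sum_congr rfl fun j _ => ?_
  have : Matrix.single i j (a i j) = a i j • Matrix.single i j (1 : k) := by simp
  rw [this, map_smul]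
  simp

variable (h : TD p u φ ψ)
include h

omit [Fintype Q] in
theorem phiR_psiR (s : Matrix n n (RR k Q)) : phiR Q φ (psiR Q ψ s) = s :=
  LinearMap.congr_fun (ext_Cm (F := phiR Q φ ∘ₗ psiR Q ψ) (G := LinearMap.id) fun a => by
    rw [LinearMap.comp_apply, funext (psiR_Cm a), phiR_C, h.sec, LinearMap.id_apply]) s

theorem psiR_aR (s : Matrix n n (RR k Q)) : psiR Q ψ (aR u s) = permA k Q Ω (psiR Q ψ s) :=
  LinearMap.congr_fun (ext_Cm (F := psiR Q ψ ∘ₗ aR u) (G := permA k Q Ω ∘ₗ psiR Q ψ) fun a => by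
    funext ω
    rw [LinearMap.comp_apply, LinearMap.comp_apply, permA_apply, aR_apply, map_sum,
      Finset.sum_apply]
    refine Finset.sum_congr rfl fun q _ => ?_
    rw [map_smul, map_sub, ← map_mul, ← map_mul, Pi.smul_apply, Pi.sub_apply, psiR_Cm, psiR_Cm,
      psiR_Cm, smul_eq_mul, ← h.ψeq q a (q⁻¹ • ω), smul_inv_smul]) s

theorem phiR_permA (w : Ω → RR k Q) : phiR Q φ (permA k Q Ω w) = aR u (phiR Q φ w) := by
  simp only [phiR_apply, permA_apply, aR_apply, Finset.sum_smul]
  rw [Finset.sum_comm]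
  refine Finset.sum_congr rfl fun q _ => ?_
  simp only [mul_smul, ← Finset.smul_sum, sub_smul, Finset.sum_sub_distrib, Finset.mul_sum,
    Finset.sum_mul]
  congr 2
  rw [← Equiv.sum_comp (MulAction.toPerm q)]
  refine Finset.sum_congr rfl fun ω _ => ?_
  rw [MulAction.toPerm_apply, inv_smul_smul, mul_smul_comm, smul_mul_assoc, ← map_mul, ← map_mul,
    ← h.φeq, mul_assoc, ← map_mul, mul_inv_cancel, map_one, mul_one]

theorem phiR_pow (j : ℕ) (w : Ω → RR k Q) :
    phiR Q φ ((permA k Q Ω ^ j) w) = (aR u ^ j) (phiR Q φ w) := by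
  induction j with
  | zero => rfl
  | succ j ih =>
    rw [pow_succ', pow_succ', Module.End.mul_apply, Module.End.mul_apply, phiR_permA h, ih]

theorem common [hp : Fact p.Prime] [CharP k p] (hP : PermS.{u} p) {w : Ω → RR k Q}
    (hw : permA k Q Ω w = 0) : ∃ (f : RR k Q) (w0 : Ω → RR k Q) (b : Matrix n n (RR k Q)),
    f ≠ 0 ∧ (∀ ω, ¬ Fx Q ω ∨ w ω = 0 → w0 ω = 0) ∧
      f • tw u (phiR Q φ w) = tw u (phiR Q φ w0) + (yR u ^ (p - 1)) b := by
  classical
  obtain ⟨f, hf, b, hb⟩ := hP k Q Ω h.exp w hw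
  obtain ⟨j, hj⟩ : ∃ j, p - 1 = j + 1 := ⟨p - 2, by have := hp.out.two_le; omega⟩
  have e : f ^ p = f ^ (p - 1) * f := by
    rw [← pow_succ, Nat.sub_add_cancel hp.out.one_le]
  refine ⟨f ^ p, fun ω => if Fx Q ω then f ^ p * w ω else 0, tw u (phiR Q φ (f ^ (p - 1) • b)),
    pow_ne_zero _ hf, fun ω h1 => ?_, ?_⟩
  · rcases h1 with h1 | h1 <;> simp [h1]
  rw [← tw_pow u h.exp, ← tw_aR_pow, ← phiR_pow h, ← map_add, ← map_add, ← map_smul]
  congr 2
  funext ω
  rw [Pi.add_apply, map_smul, Pi.smul_apply, Pi.smul_apply, smul_eq_mul, smul_eq_mul]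
  split_ifs with h1
  · rw [hj, pow_succ' (permA k Q Ω), Module.End.mul_apply, permA_apply]
    simp [h1 _]
  · rw [← hb ω h1, e, zero_add, mul_assoc]

omit h

/-- passage to the field of fractions -/
noncomputable abbrev mp : Matrix n n (RR k Q) →+* Matrix n n (KK k Q) :=
  (algebraMap (RR k Q) (KK k Q)).mapMatrix

omit [CommGroup Q] [Fintype Q] in
theorem mp_Cm (a : Matrix n n k) : mp (Cm Q a) = mK Q a := by
  ext i j
  simp [IsScalarTower.algebraMap_apply k (RR k Q) (KK k Q)]

omit [CommGroup Q] [Fintype Q] in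
theorem mp_smul (r : RR k Q) (s : Matrix n n (RR k Q)) :
    mp (r • s) = algebraMap (RR k Q) (KK k Q) r • mp s := by
  ext i j
  simp

theorem mp_XR : mp (XR u) = genX u := by
  simp only [XR, genX, map_sum, mp_smul, map_sub, mp_Cm, map_one]

theorem mp_yR (j : ℕ) (b : Matrix n n (RR k Q)) {v : n → KK k Q} (hv : genX u *ᵥ v = 0) :
    mp ((yR u ^ j) b) *ᵥ v = genX u ^ j *ᵥ (mp b *ᵥ v) := by
  induction j with
  | zero => simp
  | succ j ih =>
    rw [pow_succ', Module.End.mul_apply, yR_apply, map_sub, map_mul, map_mul, mp_XR, sub_mulVec,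
      ← mulVec_mulVec, ← mulVec_mulVec, hv, ih, mulVec_zero, sub_zero, pow_succ', ← mulVec_mulVec]

end Tw

open Tw

theorem twS [Fact p.Prime] (hP : PermS.{u} p) : TwS.{u} p := by
  intro k _ _ Q Ω _ _ _ _ n _ _ u φ ψ h
  have inj := IsFractionRing.injective (RR k Q) (KK k Q)
  refine ⟨fun s hs => ?_, fun a ha h0 v hv => ?_⟩
  · obtain ⟨⟨g, hg⟩, hg'⟩ := IsLocalization.exist_integer_multiples_of_finite
      (nonZeroDivisors (RR k Q)) fun x : n × n => s x.1 x.2
    choose s0 hs0 using hg'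
    have e0 : mp (Matrix.of fun i j => s0 (i, j)) = algebraMap (RR k Q) (KK k Q) g • s := by
      ext i j
      simp [hs0, Algebra.smul_def]
    generalize (Matrix.of fun i j => s0 (i, j)) = t at e0
    have hy : yR u t = 0 := by
      refine Matrix.map_injective inj ?_
      change mp _ = mp 0
      rw [yR_apply, map_sub, map_mul, map_mul, mp_XR, e0, map_zero, mul_smul_comm, smul_mul_assoc,
        hs, sub_self]
    let u' : Q →* Matrix n n k := u.comp invMonoidHom
    have h1 : ∀ q, u' q * u q = 1 := fun q => by simp [u', ← map_mul]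
    have h2 : ∀ q, u q * u' q = 1 := fun q => by simp [u', ← map_mul]
    have ha : aR u (tw u' t) = 0 := by
      rw [← tw_tw u' h2 (aR u _), tw_aR, tw_tw u h1, hy, map_zero]
    obtain ⟨f, w0, b, hf, hw0, e⟩ := common h hP (w := psiR Q ψ (tw u' t))
      (by rw [← psiR_aR h, ha, map_zero])
    rw [phiR_psiR h, tw_tw u h1, phiR_apply, map_sum] at e
    choose z hz0 hz using fun ω => exists_tw_smul u (w0 ω) (φ ω)
    have hc : algebraMap (RR k Q) (KK k Q) (f * g) ≠ 0 :=
      (map_ne_zero_iff _ inj).2 (mul_ne_zero hf (nonZeroDivisors.ne_zero hg))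
    refine ⟨fun ω q => (algebraMap (RR k Q) (KK k Q) (f * g))⁻¹ * algebraMap _ _ (z ω q),
      fun ω q h3 => by simp [hz0 ω (hw0 ω (Or.inl h3))], fun v hv =>
      ⟨(algebraMap (RR k Q) (KK k Q) (f * g))⁻¹ • mp b *ᵥ v, ?_⟩⟩
    have e1 := congrArg (fun x => mp x *ᵥ v) e
    simp only [hz, mp_smul, e0, map_add, map_sum, mp_Cm, add_mulVec, mp_yR _ _ hv, smul_smul,
      ← map_mul, smul_mulVec, sum_mulVec] at e1
    rw [mulVec_smul, ← (smul_right_injective _ hc).eq_iff]
    simp only [smul_sub, Finset.smul_sum, smul_smul, mul_inv_cancel_left₀ hc, mul_inv_cancel₀ hc,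
      one_smul, e1, add_sub_cancel_left]
  · obtain ⟨f, w0, b, hf, hw0, e⟩ := common h hP (w := fun ω => C (a ω)) (by
      funext ω
      simp [permA_apply, ha])
    have : w0 = 0 := funext fun ω => hw0 ω (by
      by_cases h1 : Fx Q ω
      · simp [h0 ω h1]
      · exact Or.inl h1)
    rw [phiR_C, tw_Cm, this, map_zero, map_zero, zero_add] at e
    have hc : algebraMap (RR k Q) (KK k Q) f ≠ 0 := (map_ne_zero_iff _ inj).2 hf
    refine ⟨(algebraMap (RR k Q) (KK k Q) f)⁻¹ • mp b *ᵥ v, ?_⟩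
    rw [mulVec_smul, ← mp_yR _ _ hv, ← e, mp_smul, mp_Cm, smul_mulVec, inv_smul_smul₀ hc]

end CL.DG
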