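import Cfsg.Agent.DG.Defs
import Mathlib.RingTheory.SimpleModule.IsAlgClosed
import Mathlib.RepresentationTheory.Maschke

/-! Project DG: the block algebra of a semisimple group algebra is a matrix algebra. -/

namespace CL.DG

open Matrix
open scoped MonoidAlgebra

universe u

namespace Wed

variable {k : Type} [Field k] {n : Type} [Fintype n] [DecidableEq n]

theorem scal {M : Matrix n n k} (h : ∀ s, s * M = M * s) : ∃ t : k, M = t • (1 : Matrix n n k) := by
  obtain ⟨t, rfl⟩ := mem_range_scalar_iff_commute_single'.2 fun i j => h (single i j 1)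
  exact ⟨t, by rw [scalar_apply, smul_one_eq_diagonal]⟩

theorem deg {N : Type u} [Group N] [Finite N] (i : n) (h : (Nat.card N : k) ≠ 0)
    (Φ : k[N] →ₐ[k] Matrix n n k) (hΦ : Function.Surjective Φ) : (Fintype.card n : k) ≠ 0 := fun h0 => by
  have := Fintype.ofFinite N
  let ρ : N →* Matrix n n k := (Φ : k[N] →* Matrix n n k).comp (MonoidAlgebra.of k N)
  obtain ⟨t, ht⟩ : ∃ t : k, ∑ g, ρ g * single i i 1 * ρ g⁻¹ = t • (1 : Matrix n n k) := scal fun s => by
    obtain ⟨a, rfl⟩ := hΦ s
    induction a using MonoidAlgebra.induction_on with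
    | of g =>
      change ρ g * _ = _ * ρ g
      rw [Finset.mul_sum, Finset.sum_mul]
      refine Fintype.sum_equiv (Equiv.mulLeft g) _ _ fun x => ?_
      rw [Equiv.coe_mulLeft, mul_assoc _ _ (ρ g), ← map_mul, _root_.mul_inv_rev, inv_mul_cancel_right, map_mul]
      simp only [mul_assoc]
    | add a b ha hb => rw [map_add, add_mul, mul_add, ha, hb]
    | smul r a ha => rw [map_smul, smul_mul_assoc, mul_smul_comm, ha]
  have := congrArg trace ht
  rw [trace_smul, trace_one, h0, smul_zero, trace_sum, Finset.sum_congr rfl fun g _ => show _ = (1 : k) by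
    rw [trace_mul_cycle, ← map_mul, inv_mul_cancel, map_one, one_mul, trace_single_eq_same]] at this
  exact h (by simpa using this)

end Wed

theorem wedS : WedS.{u} := fun k _ _ N _ _ h e he => by
  have : NeZero (Nat.card N : k) := ⟨h⟩
  obtain ⟨m, d, hd, ⟨E⟩⟩ := IsSemisimpleRing.exists_algEquiv_pi_matrix_of_isAlgClosed k k[N]
  obtain ⟨i, hi⟩ : ∃ i, E e i ≠ 0 := Function.ne_iff.1 ((map_ne_zero_iff E E.injective).2 he.ne)
  have sm : ∀ (a : Π i, Matrix (Fin (d i)) (Fin (d i)) k) s, a * Pi.single i s = Pi.single i (a i * s) :=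
    fun a s => (Pi.single_mul_right ..).symm
  have k1 : E e = Pi.single i (E e i) := by
    rcases he.prim (E.symm (Pi.single i 1)) (Subalgebra.mem_center_iff.2 fun b => E.injective (by
      rw [map_mul, map_mul, E.apply_symm_apply, sm, ← Pi.single_mul_left, mul_one, one_mul]))
      (E.injective (by rw [map_mul, E.apply_symm_apply, sm, Pi.single_eq_same, mul_one])) with k1 | k1 <;>
      have k2 := congrArg E k1 <;> rw [map_mul, E.apply_symm_apply, sm, mul_one] at k2
    · exact absurd (by simpa using congrFun k2 i) hi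
    · exact k2.symm
  obtain ⟨t, ht⟩ : ∃ t : k, E e i = t • 1 := Wed.scal fun s => by
    simpa using congrFun (congrArg E (Subalgebra.mem_center_iff.1 he.cen (E.symm (Pi.single i s)))) i
  have t1 : t = 1 := by
    have := congrFun (congrArg E he.idem.eq) i
    rw [map_mul, Pi.mul_apply, ht] at this
    exact mul_left_cancel₀ (a := t) (fun e => hi (by rw [ht, e, zero_smul]))
      (by simpa using congrFun (congrFun this 0) 0)
  rw [ht, t1, one_smul] at k1
  let Φ : k[N] →ₐ[k] Matrix (Fin (d i)) (Fin (d i)) k :=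
    (Pi.evalAlgHom k (fun i => Matrix (Fin (d i)) (Fin (d i)) k) i).comp E.toAlgHom
  have h1 : ∀ s, Φ (E.symm (Pi.single i s)) = s := fun s => by simp [Φ]
  refine ⟨d i, Φ, E.symm.toLinearMap ∘ₗ LinearMap.single k (fun i => Matrix (Fin (d i)) (Fin (d i)) k) i,
    by simpa using Wed.deg 0 h _ fun s => ⟨_, h1 s⟩, h1, fun a => E.injective ?_⟩
  rw [map_mul, k1, sm, mul_one]
  exact E.apply_symm_apply _

theorem primS : PrimS.{u} := fun k _ _ N _ _ h e he => by
  obtain ⟨d, Φ, ψ, hd, h1, h2⟩ := wedS k N h e he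
  have : NeZero d := ⟨fun e => hd (by rw [e, Nat.cast_zero])⟩
  have ψm : ∀ s s', ψ s * ψ s' = ψ (s * s') := fun s s' => by
    rw [← h1 s', h2, ← mul_assoc, ← h2, map_mul, h1]
  have ψ1 : ψ 1 = e := by rw [← map_one Φ, h2, one_mul]
  have ei : e * ψ (single 0 0 1) = ψ (single 0 0 1) := by rw [← ψ1, ψm, one_mul]
  refine ⟨ψ (single 0 0 1), by rw [ψm, single_mul_single_same, mul_one], ei, fun a => ⟨Φ a 0 0, ?_⟩, d,
    fun t => ψ (single t 0 1), fun t => ψ (single 0 t 1), ?_⟩
  · rw [mul_assoc, ← ei, ← mul_assoc a, ← h2, ei, ψm, ψm, ← mul_assoc, single_mul_mul_single, ← map_smul]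
    simp
  · simp only [ψm, single_mul_single_same, mul_one]
    rw [← map_sum, sum_single_one, ψ1]

end CL.DG
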