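import Cfsg.Agent.DG.Back
import Cfsg.Agent.DG.Ind
import Cfsg.Agent.DG.Mid
import Cfsg.Agent.DG.Core
import Cfsg.Agent.DG.H1
import Cfsg.Agent.DG.Line
import Cfsg.Agent.DG.Tw
import Cfsg.Agent.DG.Perm
import Cfsg.Agent.DG.Sig
import Cfsg.Agent.DG.Wed

/-! Project DG: Dade's extension theorem above the Glauberman correspondence, unconditionally. -/

namespace CL.DG

universe u

theorem dade (p : ℕ) [Fact p.Prime] : DGS.{u} p :=
  dgS (stepS (midS (coreS h1S (twS permS) freeS lineS) wedS primS) sigS grS)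

theorem dadeExt (p : ℕ) [Fact p.Prime] : Ext.{u} p := ext_of (dade p)

theorem dadeBack (p : ℕ) [Fact p.Prime] : BackS.{u} p := backS (dade p)

end CL.DG
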