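import Cfsg.Agent.DG.BackD
import Cfsg.Agent.Blk.DGP3

/-! Project DG: the two forms of Dade's theorem used in the applications. -/

namespace CL.DG

open Cfsg CL.Char CL.Blk Subgroup

universe u

variable {p : ℕ} [hp : Fact p.Prime]

theorem ext_of (hD : DGS.{u} p) : Ext.{u} p := by
  intro G _ _ K P C _ hCK hCN hK hP _ hC _ χ hχ hθ η hη r
  obtain ⟨ψ, hψ, hψ', r'⟩ := hD G K P hK hP (normalizer (P : Set G)) (Subgroup.subtype _)
    (subtype_injective _) (range_subtype _).le
    (by rw [range_subtype]; exact inf_le_right.trans (centralizer_le_normalizer _)) χ hχ hθ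
  have hKC := mck_inf_eq hp.out hP hK (le_norm_of_normal P) le_rfl hC hCN
  let b : C →* K.comap (normalizer (P : Set G)).subtype := (inclusion hCN).codRestrict _ fun a => hCK a.2
  have hb : Function.Bijective b := ⟨fun x y e => Subtype.ext (congrArg (fun z => (z.1 : G)) e),
    fun x => ⟨⟨_, hKC.le ⟨x.2, x.1.2⟩⟩, rfl⟩⟩
  exact ⟨ψ, hψ, congrFun ((r'.comp (j' := inclusion hCK) (MonoidHom.id K) b fun _ => rfl).unique hp.out r
    (hψ'.comp_mulEquiv (MulEquiv.ofBijective b hb)) hη)⟩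

theorem backS (hD : DGS.{u} p) : BackS.{u} p := by
  intro G _ _ K P _ hK hP hKN θ hθ
  obtain ⟨D⟩ := nonempty_charCover K θ.2 (isInvSet_singleton_iff.1 hθ)
  have hZ := not_dvd_card_ker_charCover hp.out hK D
  have hZ' : (Nat.card D.π.ker).Coprime p := ((Nat.Prime.coprime_iff_not_dvd hp.out).2 hZ).symm
  obtain ⟨R, hR, hRP⟩ : ∃ R : Subgroup D.Γ, IsPGroup p R ∧ R.map D.π = P := by
    obtain ⟨R, hR⟩ := CL.Grp.exists_isSylowIn p (P.comap D.π)
    have h1 := CL.Loc.isSylowIn_map hR D.π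
    rw [map_comap_eq_self_of_surjective D.π_surj] at h1
    exact ⟨R, hR.isPGroup, CL.Loc.isSylowIn_eq_of_isPGroup h1 hP⟩
  have hN : normalizer (R : Set D.Γ) = (normalizer (P : Set G)).comap D.π := by
    rw [← hRP, ← CL.Loc.map_normalizer_eq_of_coprime_ker D.π_surj hZ' hR, comap_map_eq,
      sup_eq_left.2 (D.ker_central.trans (center_le_normalizer _))]
  have hK' : ¬ p ∣ Nat.card (K.comap D.π) := by
    have h1 := card_mul_index (K.comap D.π)
    rw [D.index_comap, D.card_Γ, ← card_mul_index K, ← mul_assoc,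
      mul_left_inj' index_ne_zero_of_finite] at h1
    rw [h1, hp.out.dvd_mul]
    exact fun h => h.elim hZ hK
  have hθ' := D.ext_res_irr (D.range_le_comap (le_refl K))
  set H := normalizer (P : Set G)
  obtain ⟨ψ, hψ, hη', r'⟩ := hD D.Γ (K.comap D.π) R hK' hR (H.comap D.π) (Subgroup.subtype _)
    (subtype_injective _) ((range_subtype _).le.trans hN.ge)
    (by rw [range_subtype, ← hN]; exact inf_le_right.trans (centralizer_le_normalizer _)) D.ext
    D.ext_irr.isCharacter hθ'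
  have hψi : IsIrrCharacter _ ψ := isIrrCharacter_of_restrict hψ _ hη'
  let ι' : K.subgroupOf H →* H.comap D.π := (D.ι.comp (jH K H)).codRestrict _ fun a => by
    rw [mem_comap, MonoidHom.comp_apply, D.π_ι]; exact a.1.2
  have hι' : Function.Injective ι' := fun a a' h =>
    Subtype.ext (Subtype.ext (congrArg (fun x : K => (x : G)) (D.ι_injective (congrArg Subtype.val h))))
  let b : K.subgroupOf H →* (K.comap D.π).comap (H.comap D.π).subtype :=
    ι'.codRestrict _ fun a => D.ι_mem_comap le_rfl _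
  have hφ : IsIrrCharacter _ fun a => ψ (ι' a) := isIrrCharacter_comp_of_charCenter b hη' fun g => by
    obtain ⟨z, hz⟩ := D.exists_eq_ι_mul (x := g.1) g.2
    exact ⟨⟨⟨z, D.ker_le_comap H z.2⟩, D.ker_le_comap K z.2⟩, hη'.center_le_charCenter
      (mem_center_iff.2 fun w => Subtype.ext (Subtype.ext (D.ker_comm z w))), ⟨⟨D.π g.1, g.1.2⟩, g.2⟩,
      Subtype.ext (Subtype.ext (hz.trans (D.ker_comm z _)))⟩
  refine ⟨⟨_, hφ⟩, isInvSet_singleton_iff.2 fun g a => ?_, fun ⟨ξ, hξ, hξe⟩ => ?_⟩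
  · obtain ⟨x, rfl⟩ := D.πH_surj H g
    exact (congrArg ψ (Subtype.ext (D.ι_conj x (jH K H a)).symm)).trans (hψ.isClassFunction (ι' a) x)
  set q := QuotientGroup.mk' D.ι.range with hq
  have hqs : Function.Surjective q := QuotientGroup.mk'_surjective _
  have hq' : Function.Surjective (q.comp (H.comap D.π).subtype) := fun y => by
    obtain ⟨x, rfl⟩ := hqs y
    obtain ⟨k, hk, n, hn, e⟩ := mem_sup_of_normal_left.1 (hKN.ge (mem_top (D.π x)))
    refine ⟨⟨(D.ι ⟨k, hk⟩)⁻¹ * x, ?_⟩, ?_⟩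
    · rw [mem_comap, map_mul, map_inv, D.π_ι, ← e, inv_mul_cancel_left]
      exact hn
    · change q (_ * x) = q x
      rw [map_mul, map_inv, show q (D.ι ⟨k, hk⟩) = 1 from (QuotientGroup.eq_one_iff _).2 ⟨_, rfl⟩,
        inv_one, one_mul]
  have hk : (q.comp (H.comap D.π).subtype).ker = ι'.range := by
    ext x
    constructor
    · intro hx
      obtain ⟨k, hk⟩ : (x : D.Γ) ∈ D.ι.range := (QuotientGroup.eq_one_iff _).1 hx
      exact ⟨⟨⟨k, by rw [← D.π_ι, hk]; exact x.2⟩, k.2⟩, Subtype.ext hk⟩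
    · rintro ⟨a, rfl⟩
      exact (QuotientGroup.eq_one_iff _).2 ⟨_, rfl⟩
  have : ι'.range.Normal := hk ▸ MonoidHom.normal_ker _
  obtain ⟨lam, h1, h2⟩ := exists_linear_mul_of_restrict_eq ι'.range hψ (hξ.comp (D.πH H))
    (isIrrCharacter_range_of_comp ι' hι' hφ) (by
      rintro ⟨_, a, rfl⟩
      exact (congrArg ξ (Subtype.ext (D.π_ι _))).trans (hξe a))
  obtain ⟨β, hβ, h3⟩ := (isIrrCharacter_linear lam).exists_comp_eq _ hq' (by
    rw [hk, charKer_monoidHom]; exact h1)
  have h4 : β 1 = 1 := by simpa using (congrFun h3 1).symm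
  have := Fintype.ofFinite K
  have hk' : D.ι.range ≤ charKer fun x => β (q x) :=
    (QuotientGroup.ker_mk' D.ι.range).ge.trans (ker_le_charKer_comp β q)
  obtain ⟨χ, hχ, -, e⟩ := D.exists_irr_base (hβ.comp_of_surjective q hqs) hk' fun z x => by
    rw [map_mul, hβ.isCharacter.map_mul_of_one_eq_one h4]
    congr 1
    have := Fintype.ofFinite ((K.comap D.π).comap (H.comap D.π).subtype)
    let z' : H.comap D.π := ⟨z, D.ker_le_comap H z.2⟩
    have h0 : Ovr ((H.comap D.π).subtype.subgroupComap (K.comap D.π)) (fun c => ψ c)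
        fun k : K.comap D.π => D.ext k := ovr_iff.2 (r'.classInner_ne_zero hp.out hη')
    have h5 := h0.central_eq hθ' hη' (z := ⟨z', D.ker_le_comap K z.2⟩)
      (mem_center_iff.2 fun w => Subtype.ext (Subtype.ext (D.ker_comm z w)))
      (mem_center_iff.2 fun w => Subtype.ext (D.ker_comm z w))
    change D.ext z / D.ext 1 = ψ z' / ψ 1 at h5
    rw [D.ext_ker, D.ext_one, mul_div_cancel_right₀ _ (Nat.cast_ne_zero.2 D.d_pos.ne'),
      eq_div_iff hψi.one_ne_zero] at h5
    have h6 := congrFun h2 z'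
    have h7 := congrFun h2 1
    rw [show D.πH H z' = 1 from Subtype.ext z.2] at h6
    rw [map_one, map_one, Units.val_one, one_mul] at h7
    rw [h7, ← h5, ← mul_assoc, eq_comm, mul_eq_right₀ hψi.one_ne_zero] at h6
    rw [Units.val_inv_eq_inv_val]
    exact (congrFun h3 z').symm.trans (eq_inv_of_mul_eq_one_left h6)
  have h5 := D.factor_res hk' e
  simp only [map_one, h4, one_smul] at h5
  exact ⟨⟨χ, hχ⟩, congrFun h5⟩

end CL.DG
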