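import Cfsg.Agent.DG.Defs

/-! Project DG: the converse of the extension theorem, as a statement. -/

namespace CL.DG

open Cfsg CL.Char CL.Blk Subgroup

universe u

/-- If the Glauberman correspondent `φ` of the invariant character `θ` extends to `N_G(P)`, then `θ` extends
to `G`. -/
def BackS (p : ℕ) : Prop := ∀ (G : Type u) [Group G] [Finite G] (N P : Subgroup G) [N.Normal],
  ¬ p ∣ Nat.card N → IsPGroup p P → N ⊔ normalizer (P : Set G) = ⊤ → ∀ θ : IrrCharacter N, IsInvSet {θ} →
  ∃ φ : IrrCharacter (N.subgroupOf (normalizer (P : Set G))), IsInvSet {φ} ∧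
    ((∃ ξ : normalizer (P : Set G) → ℂ, IsCharacter _ ξ ∧
        ∀ a : N.subgroupOf (normalizer (P : Set G)), ξ a = (φ : _ → ℂ) a) →
      ∃ χ : IrrCharacter G, ∀ a : N, (χ : G → ℂ) a = (θ : N → ℂ) a)

end CL.DG
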