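import Cfsg.Agent.DG.Defs

/-! Project DG: the step of Dade's theorem in which `P` acts as an elementary abelian group. -/

namespace CL.DG

open Cfsg CL.Char CL.Blk Subgroup
open scoped commutatorElement

universe u

variable {p : ℕ} [hp : Fact p.Prime]

namespace Step

/-- Linear characters in the residue field lift to the complex numbers. -/
theorem exists_lift {M : Ideal AlgInt} (hM : IsPModular p M) {Γ : Type*} [Group Γ] [Finite Γ]
    (μ : Γ →* (resField M)ˣ) : ∃ (μ' : Γ →* ℂˣ) (m : ℕ), ¬ p ∣ m ∧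
      ∀ x, (μ' x : ℂ) ^ m = 1 ∧ red M (μ' x) = μ x := by
  have := charP_resField hM
  obtain ⟨a, m, hm, e⟩ := Nat.exists_eq_pow_mul_and_not_dvd (Nat.card_pos (α := Γ)).ne' p hp.out.ne_one
  have hm0 : m ≠ 0 := by rintro rfl; exact hm (dvd_zero p)
  have h1 : ∀ x, (μ x : resField M) ^ m = 1 := fun x => by
    rw [← ExpChar.pow_prime_pow_mul_eq_one_iff p a m, ← e, ← Units.val_pow_eq_pow_val, ← map_pow,
      pow_card_eq_one', map_one, Units.val_one]
  choose z hz hz' using fun x => exists_pow_eq_one_red_eq hm0 (h1 x)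
  let f : Γ →* ℂ :=
    { toFun := z
      map_one' := eq_one_of_red_eq_one hM hm (hz 1) (by rw [hz', map_one, Units.val_one])
      map_mul' := fun x y => eq_of_red_eq_of_pow_eq_one hM hm hm (hz _) (by rw [mul_pow, hz, hz, one_mul])
        (by rw [red_mul (mem_valRing_of_pow_eq_one hm0 (hz x)) (mem_valRing_of_pow_eq_one hm0 (hz y)), hz',
          hz', hz', map_mul, Units.val_mul]) }
  exact ⟨f.toHomUnits, m, hm, fun x => ⟨hz x, hz' x⟩⟩

theorem conj_eq_one_iff {G : Type*} [Group G] {N : Subgroup G} [N.Normal] {x : G} :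
    (MulAut.conjNormal x : MulAut N) = 1 ↔ x ∈ centralizer (N : Set G) := by
  rw [mem_centralizer_iff]
  refine ⟨fun h n hn => ?_, fun h => MulEquiv.ext fun n => Subtype.ext ?_⟩
  · have := congrArg Subtype.val (DFunLike.congr_fun h ⟨n, hn⟩)
    exact (mul_inv_eq_iff_eq_mul.1 this).symm
  · exact mul_inv_eq_iff_eq_mul.2 (h n n.2).symm

theorem mem_range_iff {G H : Type*} [Group G] [Finite G] [Group H] {N P : Subgroup G} [N.Normal]
    (hN : ¬ p ∣ Nat.card N) (hP : IsPGroup p P) {h : H →* G} (hhN : h.range ≤ normalizer (P : Set G))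
    (hCh : N ⊓ centralizer (P : Set G) ≤ h.range) (m : N) :
    m ∈ (h.subgroupComap N).range ↔ (m : G) ∈ centralizer (P : Set G) := by
  refine ⟨?_, fun hm => ?_⟩
  · rintro ⟨a, rfl⟩
    exact CL.Grp.mem_centralizer_of_mem_normalizer_of_disjoint (K := N)
      (by rw [normalizer_eq_top]; exact le_top) (disjoint_of_coprime_natCard (mck_disjoint hp.out hP hN))
      a.2 (hhN ⟨_, rfl⟩)
  · obtain ⟨a, ha⟩ := hCh ⟨m.2, hm⟩
    exact ⟨⟨a, by rw [mem_comap, ha]; exact m.2⟩, Subtype.ext ha⟩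

end Step

open Step

theorem stepS (hM : MidS.{u} p) (hS : SigS.{u} p) (hG : GrS.{u} p) : StepS.{u} p := by
  intro G _ _ N P _ hN hP hexp hcomm H _ h hh hhN hCh χ hχ hθ
  obtain ⟨M, hMp⟩ := exists_isPModular' hp.out
  have := charP_resField hMp
  have : Finite H := Finite.of_injective h hh
  have hj : Function.Injective (h.subgroupComap N) := fun a b e =>
    Subtype.ext (hh (congrArg Subtype.val e))
  have hjr : ∀ m, m ∈ (h.subgroupComap N).range ↔ ∀ x ∈ P, MulAut.conjNormal x m = m := fun m => by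
    rw [mem_range_iff hN hP hhN hCh, mem_centralizer_iff]
    exact ⟨fun e x hx => Subtype.ext (mul_inv_eq_iff_eq_mul.2 (e x hx)),
      fun e x hx => mul_inv_eq_iff_eq_mul.1 (congrArg Subtype.val (e x hx))⟩
  have hjr' : ∀ m, m ∈ (h.subgroupComap N).range ↔
      ∀ x : P, (MulAut.conjNormal : G →* MulAut N).comp P.subtype x m = m := fun m =>
    (hjr m).trans ⟨fun e x => e x x.2, fun e x hx => e ⟨x, hx⟩⟩
  have hcj : ∀ (g : H) (a : N.comap h), h.subgroupComap N (MulAut.conjNormal g a) =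
      MulAut.conjNormal (h g) (h.subgroupComap N a) := fun g a => Subtype.ext (by
    change h (g * a * g⁻¹) = h g * h a * (h g)⁻¹
    rw [map_mul, map_mul, map_inv])
  have hC : ¬ p ∣ Nat.card (N.comap h) := fun e => hN (e.trans (card_comap_dvd_of_injective _ _ hh))
  obtain ⟨β, hβ, -, r⟩ := (isGlCorr_pgroup hp.out hP hN _ _ hj hjr').ex _ hθ
    fun a g => hχ.isClassFunction g a
  have hinv : ∀ (g : H) (n : N.comap h),
      β ⟨g * n * g⁻¹, Normal.conj_mem inferInstance _ n.2 g⟩ = β n := fun g => by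
    have h1 := r.comp (j' := h.subgroupComap N) (MulAut.conjNormal (h g) : MulAut N)
      (MulAut.conjNormal g : MulAut (N.comap h)) (hcj g)
    have h2 : (fun m : N => χ ((MulAut.conjNormal (h g) : MulAut N) m : N)) = fun m : N => χ m :=
      funext fun m => hχ.isClassFunction m (h g)
    erw [h2] at h1
    exact congrFun (h1.unique hp.out r (hβ.comp_mulEquiv _) hβ)
  obtain ⟨D⟩ := nonempty_charCover (N.comap h) hβ hinv
  have hZ := not_dvd_card_ker_charCover hp.out hC (θ := ⟨β, hβ⟩) D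
  obtain ⟨he, σ, hσ, -⟩ := hS M hMp N G hN N.subtype _ (nemb_subtype N) χ hχ ⟨_, hθ⟩ fun _ => rfl
  obtain ⟨he', σ', hσ', hσ''⟩ := hS M hMp (N.comap h) D.Γ hC D.ι
    ((MulAut.conjNormal : H →* MulAut (N.comap h)).comp D.π)
    ⟨D.ι_injective, fun g a => (D.ι_conj g a).symm⟩ D.ext D.ext_irr.isCharacter ⟨β, hβ⟩ D.ext_ι
  obtain ⟨μ, hμ, hμ'⟩ := hM (resField M) N G (N.comap h) D.Γ
    (fun e => hN ((natCast_resField_eq_zero_iff hMp _).1 e))
    (fun e => hC ((natCast_resField_eq_zero_iff hMp _).1 e)) N.subtype _ (nemb_subtype N) P hP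
    (fun x hx => by rw [← map_pow]; exact conj_eq_one_iff.2 (hexp x hx))
    (fun x hx y hy => by
      rw [← commutatorElement_eq_one_iff_mul_comm, ← map_commutatorElement]
      exact conj_eq_one_iff.2 (hcomm x hx y hy)) _ σ he hσ _ hj hjr D.ι _ (h.comp D.π)
    (by rintro _ ⟨x, rfl⟩; exact hhN ⟨_, rfl⟩) (fun x => hcj (D.π x))
    (fun a => congrArg h (D.π_ι a)) _ σ' he' hσ'
    (hG M hMp P N (N.comap h) hP hN _ _ hj hjr' ⟨_, hθ⟩ ⟨β, hβ⟩ r)
  obtain ⟨μ', m, hm, hμm⟩ := exists_lift hMp μ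
  have hk : D.ι.range ≤ charKer fun x => (μ' x : ℂ) := by
    rw [charKer_monoidHom]
    rintro _ ⟨a, rfl⟩
    exact Units.ext (eq_one_of_red_eq_one hMp hm (hμm _).1 (by rw [(hμm _).2, hμ, Units.val_one]))
  have := Fintype.ofFinite (N.comap h)
  obtain ⟨η, hη, -, e⟩ := D.exists_irr_base (isIrrCharacter_linear μ') hk fun z x => by
    have h1 : ((D.ν z⁻¹ : ℂˣ) : ℂ) ^ Nat.card D.π.ker = 1 := by
      rw [← Units.val_pow_eq_pow_val, ← map_pow, pow_card_eq_one', map_one, Units.val_one]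
    have h2 := hμ' z _ (by rw [MonoidHom.comp_apply, z.2, map_one])
      (hσ'' (z : D.Γ)⁻¹ _ (mem_valRing_of_pow_eq_one Nat.card_pos.ne' h1) (D.ext_ker_mul z⁻¹))
    rw [map_mul, Units.val_mul, eq_of_red_eq_of_pow_eq_one hMp hm hZ (hμm z).1 h1 ((hμm z).2.trans h2),
      map_inv]
  have h3 := D.factor_res hk e
  simp only [map_one, Units.val_one, one_smul] at h3
  exact ⟨η, hη.isCharacter, h3 ▸ hβ, h3 ▸ r⟩

end CL.DG
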