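import Cfsg.Agent.DG.Defs
import Cfsg.Agent.Odd.FT
import Cfsg.Agent.Grp.Coprime2
import Cfsg.Agent.Grp.Fitting

/-! Project DG: extension of the faithful character of an extraspecial `2`-group. -/

namespace CL.DG

open Cfsg CL.Char CL.Blk CL.Grp Subgroup
open scoped commutatorElement

universe u

namespace X4759

variable {G : Type u} [Group G]

/-- `θ` extends to `G`. -/
def Ext (N : Subgroup G) (θ : N → ℂ) : Prop := ∃ χ : G → ℂ, IsIrrCharacter G χ ∧ ∀ n : N, χ n = θ n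

/-- `θ` is invariant in `G`. -/
def Inv (N : Subgroup G) (θ : N → ℂ) : Prop := ∀ (g : G) (a b : N), (b : G) = g * a * g⁻¹ → θ b = θ a

theorem inv_iff [Finite G] {N : Subgroup G} [N.Normal] {θ : IrrCharacter N} : IsInvSet {θ} ↔ Inv N θ :=
  isInvSet_singleton_iff.trans ⟨fun h g a b e => by rw [← h g a]; exact congrArg _ (Subtype.ext e),
    fun h g a => h g a _ rfl⟩

theorem ext_of_pio [Finite G] {H : Type u} [Group H] [Finite H] {p : ℕ} {M : Ideal AlgInt} {N : Subgroup G} [N.Normal]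
    {L : Subgroup H} {θ : IrrCharacter N} {φ : IrrCharacter L} (h : PIo p M θ φ) (hi : Inv N θ) (he : Ext L φ) :
    Ext N θ := by
  obtain ⟨I, ⟨h2, -⟩, h3⟩ := h
  obtain ⟨ξ, hξ, e⟩ := he
  have := Fintype.ofFinite N
  have := Fintype.ofFinite L
  have h0 : classInner (fun n : L => ξ n) (φ : L → ℂ) ≠ 0 := by
    rw [funext e, φ.2.classInner_self]
    exact one_ne_zero
  have h4 : (⟨ξ, hξ⟩ : IrrCharacter H) ∈ overSet L {φ} := ⟨φ, rfl, (over_iff (χ := ξ)).2 h0⟩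
  have h5 := h3 _ h4
  have h6 : Over N (I ⟨ξ, hξ⟩ : G → ℂ) (θ : N → ℂ) := mem_overSet_singleton.1 (h2.1 h4)
  refine ⟨_, (I ⟨ξ, hξ⟩).2, fun n => ?_⟩
  have h7 : ξ 1 = (φ : L → ℂ) 1 := e 1
  replace h5 : (I ⟨ξ, hξ⟩ : G → ℂ) 1 = (θ : N → ℂ) 1 :=
    mul_right_cancel₀ φ.2.one_ne_zero (h5.trans (by rw [← h7, mul_comm]))
  have h9 : cstab (MulAut.conjNormal : G →* MulAut N) (θ : N → ℂ) = ⊤ := eq_top_iff.2 fun g _ a => hi g a _ rfl
  have h8 := (nemb_subtype N).res_eq (I ⟨ξ, hξ⟩).2 θ.2 h9 ((ovr_iff (k := N.subtype)).2 (over_iff.1 h6)) n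
  rwa [h5, div_self θ.2.one_ne_zero, one_mul] at h8

theorem ext_of_top [Finite G] {p : ℕ} (hp : p.Prime) (hT : TopS.{u} p) (N P : Subgroup G) [N.Normal]
    (hN : ¬ p ∣ Nat.card N) (hP : IsPGroup p P) (h : N ⊔ normalizer (P : Set G) = ⊤) {θ : N → ℂ}
    (hθ : IsIrrCharacter N θ) (hi : Inv N θ) :
    ∃ φ : N.subgroupOf (normalizer (P : Set G)) → ℂ, IsIrrCharacter _ φ ∧ Inv _ φ ∧ (Ext _ φ → Ext N θ) := by
  obtain ⟨M, hM⟩ := exists_isPModular' hp
  obtain ⟨φ, h1, -, h2⟩ := hT M hM G N P hN hP h ⟨θ, hθ⟩ (inv_iff.2 hi)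
  exact ⟨φ, φ.2, inv_iff.1 h1, ext_of_pio h2 hi⟩

theorem transport {Q : Type u} [Group Q] (π : G →* Q) (hπ : Function.Surjective π) (N : Subgroup G) [hN : N.Normal]
    (h : ∀ n ∈ N, π n = 1 → n = 1) {θ : N → ℂ} (hθ : IsIrrCharacter N θ) (hi : Inv N θ) :
    ∃ ψ : N.map π → ℂ, IsIrrCharacter _ ψ ∧ Inv _ ψ ∧ (Ext _ ψ → Ext N θ) := by
  let e : N ≃* N.map π := MulEquiv.ofBijective (π.subgroupMap N) ⟨(injective_iff_map_eq_one _).2
    fun a ha => Subtype.ext (h a a.2 (congrArg Subtype.val ha)), π.subgroupMap_surjective N⟩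
  have he : ∀ a : N, (e a : Q) = π a := fun _ => rfl
  refine ⟨fun a => θ (e.symm a), hθ.comp_mulEquiv e.symm, fun g a b hb => ?_, fun ⟨χ, hχ, h1⟩ =>
    ⟨_, hχ.comp_of_surjective π hπ, fun n => by simpa [he] using h1 (e n)⟩⟩
  obtain ⟨g, rfl⟩ := hπ g
  obtain ⟨a, rfl⟩ := e.surjective a
  obtain rfl : b = e ⟨g * a * g⁻¹, hN.conj_mem _ a.2 g⟩ := Subtype.ext (by simp [hb, he])
  simp only [MulEquiv.symm_apply_apply]
  exact hi g _ _ rfl

theorem ext_top {N : Subgroup G} (h : N = ⊤) {θ : N → ℂ} (hθ : IsIrrCharacter N θ) : Ext N θ := by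
  subst h
  exact ⟨_, hθ.comp_mulEquiv topEquiv.symm, fun _ => rfl⟩

theorem eq_one {N H : Subgroup G} (h : N ⊓ H = ⊥) {x : G} (h1 : x ∈ N) (h2 : x ∈ H) : x = 1 :=
  mem_bot.1 (h ▸ (⟨h1, h2⟩ : x ∈ N ⊓ H))

theorem claim (hT : ∀ p : ℕ, p.Prime → TopS.{u} p) (n : ℕ) : ∀ (G : Type u) [Group G] [Finite G]
    (N H K : Subgroup G) [N.Normal], Nat.card K = n → N ⊔ H = ⊤ → N ⊓ H = ⊥ → K ≤ H →
    H ≤ normalizer (K : Set G) → Group.IsSolvable K → (Nat.card K).Coprime (Nat.card N) →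
    (∀ x ∈ N, (∀ k ∈ K, k * x = x * k) → x ∈ center G) →
    ∀ θ : N → ℂ, IsIrrCharacter N θ → Inv N θ → Ext N θ := by
  induction n using Nat.strong_induction_on with | _ n ih => ?_
  intro G _ _ N H K hN hn h1 h2 h3 h4 h5 h6 h7 θ hθ hi
  by_cases hK : K = ⊥
  · have hZ : ∀ x ∈ N, x ∈ center G := fun x hx => h7 x hx fun k hk => by
      rw [hK, mem_bot] at hk
      rw [hk, one_mul, mul_one]
    have : H.Normal := normalizer_eq_top_iff.1 (eq_top_iff.2 (h1.ge.trans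
      (sup_le (fun x hx => center_le_normalizer _ (hZ x hx)) le_normalizer)))
    obtain ⟨ψ, e1, -, e2⟩ := transport (QuotientGroup.mk' H) (QuotientGroup.mk'_surjective H) N
      (fun x hx e => eq_one h2 hx ((QuotientGroup.eq_one_iff x).1 e)) hθ hi
    refine e2 (ext_top ?_ e1)
    have := congrArg (map (QuotientGroup.mk' H)) h1
    rwa [Subgroup.map_sup, QuotientGroup.map_mk'_self, sup_bot_eq,
      map_top_of_surjective _ (QuotientGroup.mk'_surjective H)] at this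
  have := (nontrivial_iff_ne_bot K).2 hK
  obtain ⟨p, hp, hne⟩ := exists_pCore_ne_bot K
  have := Fact.mk hp
  obtain ⟨P, hP0, hPK, hP, hHP⟩ : ∃ P : Subgroup G, P ≠ ⊥ ∧ P ≤ K ∧ IsPGroup p P ∧ H ≤ normalizer (P : Set G) :=
    ⟨(pCore p K).map K.subtype, fun e => hne ((map_eq_bot_iff_of_injective _ K.subtype_injective).1 e),
      map_subtype_le _, (pCore_isPGroup p K).map _, h4.trans (normalizer_le_normalizer_map_subtype _)⟩
  have hpN : ¬ p ∣ Nat.card N := fun e => by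
    have := (nontrivial_iff_ne_bot P).2 hP0
    obtain ⟨k, hk, e1⟩ := hP.nontrivial_iff_card.1 this
    exact hp.ne_one (Nat.eq_one_of_dvd_coprimes h6 ((e1 ▸ dvd_pow_self p hk.ne').trans (card_dvd_of_le hPK)) e)
  obtain ⟨φ, hφ, hφi, hφe⟩ := ext_of_top hp (hT p hp) N P hpN hP
    (eq_top_iff.2 (h1.ge.trans (sup_le_sup_left hHP _))) hθ hi
  refine hφe ?_
  set G₁ := normalizer (P : Set G)
  let π := QuotientGroup.mk' (P.subgroupOf G₁)
  have hπ : Function.Surjective π := QuotientGroup.mk'_surjective _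
  have hπ1 : ∀ x : G₁, π x = 1 ↔ x.1 ∈ P := fun x => QuotientGroup.eq_one_iff x
  obtain ⟨ψ, e1, e2, e3⟩ := transport π hπ (N.subgroupOf G₁)
    (fun x hx e => Subtype.ext (eq_one h2 hx (h3 (hPK ((hπ1 x).1 e))))) hφ hφi
  have := (inferInstance : (N.subgroupOf G₁).Normal).map π hπ
  have hKG : K ≤ G₁ := h3.trans hHP
  refine e3 (ih _ ?_ _ _ ((H.subgroupOf G₁).map π) ((K.subgroupOf G₁).map π) rfl ?_ ?_
    (map_mono (comap_mono h3)) ?_ ?_ ?_ ?_ ψ e1 e2)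
  · obtain ⟨x, hx, hx1⟩ := (bot_or_exists_ne_one P).resolve_left hP0
    rw [← hn, ← card_subgroupOf_of_le hKG]
    have := Fintype.ofFinite (K.subgroupOf G₁)
    have := Fintype.ofFinite ((K.subgroupOf G₁).map π)
    rw [Nat.card_eq_fintype_card, Nat.card_eq_fintype_card]
    refine Fintype.card_lt_of_surjective_not_injective _ (π.subgroupMap_surjective _) fun e => hx1 ?_
    exact congrArg (·.1.1) ((injective_iff_map_eq_one _).1 e ⟨⟨x, le_normalizer hx⟩, hPK hx⟩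
      (Subtype.ext ((hπ1 _).2 hx)))
  · rw [← Subgroup.map_sup, ← map_top_of_surjective π hπ]
    congr 1
    refine eq_top_iff.2 fun x _ => ?_
    obtain ⟨a, ha, b, hb, e⟩ := mem_sup_of_normal_left.1 (h1 ▸ mem_top x.1)
    have hb' : b ∈ G₁ := hHP hb
    have : x = ⟨a, by rw [eq_mul_inv_of_mul_eq e]; exact mul_mem x.2 (inv_mem hb')⟩ * ⟨b, hb'⟩ :=
      Subtype.ext e.symm
    rw [this]
    exact mul_mem_sup ha hb
  · refine eq_bot_iff.2 ?_
    rintro _ ⟨⟨a, ha, rfl⟩, b, hb, e⟩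
    have e4 : (b⁻¹ * a).1 ∈ P := (hπ1 _).1 (by rw [map_mul, map_inv, e, inv_mul_cancel])
    have e5 : a = 1 := Subtype.ext (eq_one h2 ha ((H.mul_mem_cancel_left (inv_mem hb)).1 (h3 (hPK e4))))
    rw [e5, map_one]
    exact one_mem _
  · rintro _ ⟨h, hh, rfl⟩
    refine mem_normalizer_fintype ?_
    rintro _ ⟨k, hk, rfl⟩
    exact ⟨h * k * h⁻¹, (h4 hh k.1).1 hk, by simp⟩
  · have := isSolvable_subgroupOf K G₁
    exact Group.isSolvable_of_surjective (π.subgroupMap_surjective _)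
  · refine (h6.coprime_dvd_left ((card_map_dvd _ π).trans ?_)).coprime_dvd_right ((card_map_dvd _ π).trans ?_)
    · exact card_comap_dvd_of_injective _ _ G₁.subtype_injective
    · exact card_comap_dvd_of_injective _ _ G₁.subtype_injective
  · rintro _ ⟨l, hl, rfl⟩ hc
    have e4 : l.1 ∈ center G := h7 l hl fun k hk => by
      have e5 : k * l * k⁻¹ * l.1⁻¹ ∈ P := (hπ1 (⟨k, hKG hk⟩ * l * (⟨k, hKG hk⟩ : G₁)⁻¹ * l⁻¹)).1 (by
        rw [map_mul, map_mul, map_mul, hc _ ⟨⟨k, hKG hk⟩, hk, rfl⟩]; simp)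
      have e6 := eq_one h2 (mul_mem (hN.conj_mem _ hl k) (inv_mem hl)) (h3 (hPK e5))
      rwa [mul_inv_eq_one, mul_inv_eq_iff_eq_mul] at e6
    refine mem_center_iff.2 fun g => ?_
    obtain ⟨g, rfl⟩ := hπ g
    rw [← map_mul, ← map_mul]
    exact congrArg π (Subtype.ext (mem_center_iff.1 e4 g))

end X4759

open X4759

theorem s4759_of (hT : ∀ p : ℕ, p.Prime → TopS.{u} p) {G : Type u} [Group G] [Finite G] (E H : Subgroup G)
    [E.Normal] (hE : Cfsg.IsExtraspecial 2 ↥E) (hEH : E ⊓ H = ⊥) (hEHtop : E ⊔ H = ⊤)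
    (_hfaith : ∀ h ∈ H, (∀ e ∈ E, h * e = e * h) → h = 1) (K : Subgroup G) (hKH : K ≤ H)
    (hKn : ∀ h ∈ H, ∀ k ∈ K, h * k * h⁻¹ ∈ K) (hKodd : Odd (Nat.card ↥K)) (hEK : ⁅E, K⁆ = E)
    (θ : Cfsg.IrrCharacter ↥E) (hθ : ∀ e : ↥E, (θ : ↥E → ℂ) e = (θ : ↥E → ℂ) 1 → e = 1) :
    ∃ χ : Cfsg.IrrCharacter G, ∀ e : ↥E, (χ : G → ℂ) e = (θ : ↥E → ℂ) e := by
  obtain ⟨⟨hp, -, hd⟩, hc⟩ := hE
  have hcop : (Nat.card K).Coprime (Nat.card E) := by
    obtain ⟨k, hk⟩ := hp.exists_card_eq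
    rw [hk]
    exact (Nat.coprime_two_right.2 hKodd).pow_right k
  let Z := (center E).map E.subtype
  have hZ : Z ≤ center G := fun z hz => mem_center_iff.2 fun g => by
    by_cases h1 : z = 1
    · rw [h1, mul_one, one_mul]
    obtain ⟨w, -, hw⟩ := (Nat.card_eq_two_iff' (1 : Z)).1 ((card_map_of_injective E.subtype_injective).trans hc)
    have e1 := hw ⟨z, hz⟩ fun e => h1 (congrArg Subtype.val e)
    have e2 := hw ⟨g * z * g⁻¹, (inferInstance : Z.Normal).conj_mem z hz g⟩ fun e =>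
      h1 (by simpa using congrArg Subtype.val e)
    exact mul_inv_eq_iff_eq_mul.1 (congrArg Subtype.val (e2.trans e1.symm))
  have hZE : ∀ e : E, e.1 ∈ Z ↔ e ∈ center E := fun e => mem_map_iff_mem E.subtype_injective
  have h0 : ∀ e : E, e ∉ center E → (θ : E → ℂ) e = 0 := fun e he => by
    obtain ⟨f, hf⟩ := not_forall.1 (mt mem_center_iff.2 he)
    obtain ⟨ω, -, hω⟩ := mem_charCenter_def.1 (θ.2.center_le_charCenter (hd ▸ commutator_mem_commutator
      (mem_top f) (mem_top e) : ⁅f, e⁆ ∈ center E))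
    have e1 := hω e
    rw [show ⁅f, e⁆ * e = f * e * f⁻¹ by rw [commutatorElement_def, inv_mul_cancel_right], θ.2.isClassFunction] at e1
    by_contra h1
    refine hf (commutatorElement_eq_one_iff_mul_comm.1 (hθ _ ?_))
    rw [← mul_one ⁅f, e⁆, hω, (mul_eq_right₀ h1).1 e1.symm, one_mul]
  refine (claim hT _ G E H K rfl hEHtop hEH hKH (fun h hh => mem_normalizer_fintype (hKn h hh))
    (CL.Odd.feit_thompson hKodd) hcop (fun x hx hc => hZ ?_) θ θ.2 fun g a b e => ?_).elim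
      fun χ h => ⟨⟨χ, h.1⟩, h.2⟩
  · let π := QuotientGroup.mk' Z
    have hπ : Function.Surjective π := QuotientGroup.mk'_surjective _
    have := (inferInstance : E.Normal).map π hπ
    have : IsMulCommutative (E.map π) := ⟨⟨by
      rintro ⟨_, a, ha, rfl⟩ ⟨_, b, hb, rfl⟩
      refine Subtype.ext (commutatorElement_eq_one_iff_mul_comm.1 ?_)
      exact (QuotientGroup.eq_one_iff ⁅a, b⁆).2 ((hZE ⁅(⟨a, ha⟩ : E), ⟨b, hb⟩⁆).2
        (hd.le (commutator_mem_commutator (mem_top _) (mem_top _))))⟩⟩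
    have h1 := inf_centralizer_inf_commutator_eq_bot (A := K.map π) (V := E.map π) le_normalizer_of_normal
      ((hcop.coprime_dvd_left (card_map_dvd _ π)).coprime_dvd_right (card_map_dvd _ π))
    rw [← map_commutator, hEK] at h1
    refine (QuotientGroup.eq_one_iff x).1 (mem_bot.1 (h1.le ⟨⟨⟨x, hx, rfl⟩, ?_⟩, x, hx, rfl⟩))
    rintro _ ⟨k, hk, rfl⟩
    exact (map_mul π k x).symm.trans ((congrArg π (hc k hk)).trans (map_mul π x k))
  · by_cases ha : a ∈ center E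
    · rw [mem_center_iff.1 (hZ ((hZE a).2 ha)) g, mul_inv_cancel_right] at e
      rw [Subtype.ext e]
    · rw [h0 a ha, h0 b fun hb => ha ((hZE a).1 ?_)]
      have := (inferInstance : Z.Normal).conj_mem _ ((hZE b).2 hb) g⁻¹
      simpa [e, mul_assoc] using this

end CL.DG
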